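import Groth.Agent.ComodLib.Points
import Groth.Agent.ComodLib.StableOrbit
import Groth.Agent.LunaEt.PolyComod
import Groth.Agent.LunaEt.Fibre
import Groth.Agent.EquivZMT.Points

/-!
# Averages of linear maps seen on rational points; quotient coactions
-/

set_option autoImplicit false
set_option linter.unusedSectionVars false
set_option maxHeartbeats 400000

universe u

open TensorProduct WithConv

namespace Groth.Agent.LunaSlice

open ComodLib LunaEt GLin

variable {k : Type u} [Field k] {A : Type u} [CommRing A] [HopfAlgebra k A]
variable {V : Type u} [AddCommGroup V] [Module k V] [HopfRep.Comod k A V]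
variable {U : Type u} [AddCommGroup U] [Module k U] [HopfRep.Comod k A U]

/-- The conjugate of a linear map by a rational point. -/
noncomputable def conjPt (p : V →ₗ[k] U) (g : A →ₐ[k] k) (v : V) : U :=
  HopfRep.Comod.act k A U (toConv g)⁻¹.ofConv (p (HopfRep.Comod.act k A V g v))

theorem lid_ptEnd {W : Type u} [AddCommGroup W] [Module k W] [HopfRep.Comod k A W] (g : A →ₐ[k] k) (z : k ⊗[k] W) :
    TensorProduct.lid k W (ptEnd g z) = HopfRep.Comod.act k A W g (TensorProduct.lid k W z) := by
  induction z using TensorProduct.induction_on with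
  | zero => simp
  | add a b ha hb => simp only [map_add, ha, hb]
  | tmul c w =>
    rw [ptEnd_tmul, map_smul, TensorProduct.lid_tmul, map_smul]
    congr 1
    show _ = TensorProduct.rid k W (g.toLinearMap.lTensor W (HopfRep.Comod.coact (k := k) (A := A) w))
    generalize g.toLinearMap.lTensor W (HopfRep.Comod.coact (k := k) (A := A) w) = y
    induction y using TensorProduct.induction_on with
    | zero => simp
    | tmul a b => simp
    | add a b ha hb => simp only [map_add, ha, hb]

theorem conv_comp_inv (g : A →ₐ[k] k) :
    g.comp (toConv (AlgHom.id k A))⁻¹.ofConv = (toConv g)⁻¹.ofConv := by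
  have h1 : toConv (g.comp (toConv (AlgHom.id k A))⁻¹.ofConv) * toConv g = 1 := by
    have e := congrArg (fun φ : WithConv (A →ₐ[k] A) => toConv (g.comp φ.ofConv))
      (inv_mul_cancel (toConv (AlgHom.id k A)))
    refine Eq.trans ?_ (e.trans ?_)
    · apply WithConv.ext
      ext a
      simp only [AlgHom.convMul_apply, ofConv_toConv, AlgHom.comp_apply]
      generalize Coalgebra.comul (R := k) a = y
      induction y using TensorProduct.induction_on with
      | zero => simp
      | tmul a b => simp
      | add a b ha hb => simp only [map_add, ha, hb]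
    · apply WithConv.ext
      ext a
      simp [AlgHom.convOne_apply]
  exact congrArg WithConv.ofConv (eq_inv_of_mul_eq_one_left h1)

theorem lid_rTensor_conjUniv (p : V →ₗ[k] U) (g : A →ₐ[k] k) (v : V) :
    TensorProduct.lid k U (g.toLinearMap.rTensor U (conjUniv p v)) = conjPt p g v := by
  have hb : ∀ z : A ⊗[k] V, g.toLinearMap.rTensor U (p.baseChange A z) = p.baseChange k (g.toLinearMap.rTensor V z) :=
    fun z => by
      induction z using TensorProduct.induction_on with
      | zero => simp
      | tmul a b => simp
      | add a b ha hb => simp only [map_add, ha, hb]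
  simp only [conjUniv, LinearMap.comp_apply, LinearMap.coe_restrictScalars, TensorProduct.mk_apply]
  rw [ptEnd_naturality, hb, ptEnd_naturality, lid_ptEnd, conv_comp_inv, AlgHom.comp_id,
    LinearMap.rTensor_tmul]
  show _ = HopfRep.Comod.act k A U _ (p (HopfRep.Comod.act k A V g v))
  congr 1
  rw [show g.toLinearMap (1 : A) = 1 from map_one g]
  generalize hz : ptEnd g ((1 : k) ⊗ₜ[k] v) = z
  have hz' := congrArg (TensorProduct.lid k V) hz
  rw [lid_ptEnd, TensorProduct.lid_tmul, one_smul] at hz'
  rw [hz']
  clear hz hz'
  induction z using TensorProduct.induction_on with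
  | zero => simp
  | tmul a b => simp
  | add a b ha hb => simp only [map_add, ha, hb]

variable [IsAlgClosed k] [Algebra.FiniteType k A] [_root_.IsReduced A]

/-- Linear congruences between conjugates at all rational points pass to the average. -/
theorem average_sub_mem {α : A →ₗ[k] k} (h1 : α 1 = 1) (p : V →ₗ[k] U) (v v' : V) (L : U →ₗ[k] U) (c : U)
    (W : Submodule k U) (h : ∀ g : A →ₐ[k] k, conjPt p g v' - L (conjPt p g v) - c ∈ W) :
    average α p v' - L (average α p v) - c ∈ W := by
  let ζ : A ⊗[k] U := conjUniv p v' - L.lTensor A (conjUniv p v) - (1 : A) ⊗ₜ[k] c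
  have hζ : ∀ β : A →ₗ[k] k, TensorProduct.lid k U (β.rTensor U ζ) =
      TensorProduct.lid k U (β.rTensor U (conjUniv p v')) - L (TensorProduct.lid k U (β.rTensor U (conjUniv p v))) -
        β 1 • c := fun β => by
    have e : ∀ z : A ⊗[k] U, TensorProduct.lid k U (β.rTensor U (L.lTensor A z)) =
        L (TensorProduct.lid k U (β.rTensor U z)) := fun z => by
      induction z using TensorProduct.induction_on with
      | zero => simp
      | tmul a b => simp
      | add a b ha hb => simp only [map_add, ha, hb]
    simp only [ζ, map_sub, e, LinearMap.rTensor_tmul, TensorProduct.lid_tmul]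
  have h0 : (TensorProduct.comm k A _) (W.mkQ.lTensor A ζ) = 0 := eq_zero_of_forall_pt fun g => by
    have e : ∀ z : A ⊗[k] U, slice g.toLinearMap ((TensorProduct.comm k A _) (W.mkQ.lTensor A z)) =
        W.mkQ (TensorProduct.lid k U (g.toLinearMap.rTensor U z)) := fun z => by
      induction z using TensorProduct.induction_on with
      | zero => simp
      | tmul a b => simp
      | add a b ha hb => simp only [map_add, ha, hb]
    rw [e, hζ, lid_rTensor_conjUniv, lid_rTensor_conjUniv, show g.toLinearMap (1 : A) = 1 from map_one g, one_smul]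
    exact (Submodule.Quotient.mk_eq_zero W).mpr (h g)
  have h2 : W.mkQ.lTensor A ζ = 0 := (TensorProduct.comm k A _).injective (h0.trans (map_zero _).symm)
  have e : ∀ z : A ⊗[k] U, TensorProduct.lid k (U ⧸ W) (α.rTensor _ (W.mkQ.lTensor A z)) =
      W.mkQ (TensorProduct.lid k U (α.rTensor U z)) := fun z => by
    induction z using TensorProduct.induction_on with
    | zero => simp
    | tmul a b => simp
    | add a b ha hb => simp only [map_add, ha, hb]
  have h3 := e ζ
  rw [h2, map_zero, map_zero, hζ, h1, one_smul] at h3
  exact (Submodule.Quotient.mk_eq_zero W).mp h3.symm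

theorem average_mem {α : A →ₗ[k] k} (h1 : α 1 = 1) (p : V →ₗ[k] U) (v : V)
    (W : Submodule k U) (h : ∀ g : A →ₐ[k] k, conjPt p g v ∈ W) : average α p v ∈ W := by
  simpa using average_sub_mem h1 p 0 v 0 0 W (fun g => by simpa [conjPt] using h g)

section Quot

variable {T : Type u} [CommRing T] [Algebra k T] [HopfRep.Comod k A T] [GLin.IsCoactAlg k A T]

/-- The coaction on the quotient by an ideal stable under the rational points. -/
theorem exists_comod_quot (I : Ideal T) (hI : ∀ g : A →ₐ[k] k, ∀ t ∈ I, HopfRep.Comod.act k A T g t ∈ I) :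
    ∃ (c : HopfRep.Comod k A (T ⧸ I)) (_ : @GLin.IsCoactAlg k _ A _ _ (T ⧸ I) _ _ c),
      ∀ t, @HopfRep.Comod.coact k A _ _ _ _ (T ⧸ I) _ _ c (Ideal.Quotient.mk I t) =
        Algebra.TensorProduct.map (Ideal.Quotient.mkₐ k I) (AlgHom.id k A)
          (HopfRep.Comod.coact (k := k) (A := A) t) := by
  let ψ : T →ₐ[k] (T ⧸ I) ⊗[k] A :=
    (Algebra.TensorProduct.map (Ideal.Quotient.mkₐ k I) (AlgHom.id k A)).comp (GLin.coactAlgHom k A T)
  have hψ : ∀ t ∈ I, ψ t = 0 := fun t ht => by
    refine eq_zero_of_forall_pt fun g => ?_
    show slice g.toLinearMap (Algebra.TensorProduct.map (Ideal.Quotient.mkₐ k I) (AlgHom.id k A)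
      (HopfRep.Comod.coact (k := k) (A := A) t)) = 0
    rw [← rTensor_eq_map, slice_rTensor]
    exact Ideal.Quotient.eq_zero_iff_mem.mpr (hI g t ht)
  let ρ : (T ⧸ I) →ₐ[k] (T ⧸ I) ⊗[k] A := Ideal.Quotient.liftₐ I ψ hψ
  have hρ : ∀ t, ρ (Ideal.Quotient.mk I t) = ψ t := fun t => rfl
  obtain ⟨c, hc, e⟩ := exists_comod_of_algHom ρ (Ideal.Quotient.algHom_ext k (AlgHom.ext fun t => by
      have h := LinearMap.congr_fun (HopfRep.Comod.coassoc (k := k) (A := A) (V := T)) t
      simp only [LinearMap.comp_apply, LinearEquiv.coe_coe] at h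
      have h' := congrArg ((Ideal.Quotient.mkₐ k I).toLinearMap.rTensor (A ⊗[k] A)) h
      simp only [coassocL, coassocR, AlgHom.comp_apply, Ideal.Quotient.mkₐ_eq_mk, hρ]
      refine Eq.trans ?_ (h'.trans ?_)
      · show _ = (Ideal.Quotient.mkₐ k I).toLinearMap.rTensor (A ⊗[k] A) _
        simp only [ψ, AlgHom.comp_apply, GLin.coactAlgHom_apply]
        induction HopfRep.Comod.coact (k := k) (A := A) t using TensorProduct.induction_on with
        | zero => simp
        | add p q hp hq => simp only [map_add, hp, hq]
        | tmul a b =>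
          simp only [Algebra.TensorProduct.map_tmul, AlgHom.id_apply, LinearMap.rTensor_tmul,
            Ideal.Quotient.mkₐ_eq_mk, hρ, ψ, AlgHom.comp_apply, GLin.coactAlgHom_apply]
          induction HopfRep.Comod.coact (k := k) (A := A) a using TensorProduct.induction_on with
          | zero => simp
          | add p q hp hq => simp only [map_add, TensorProduct.add_tmul, hp, hq]
          | tmul a' b' => simp
      · simp only [ψ, AlgHom.comp_apply, GLin.coactAlgHom_apply]
        induction HopfRep.Comod.coact (k := k) (A := A) t using TensorProduct.induction_on with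
        | zero => simp
        | add p q hp hq => simp only [map_add, hp, hq]
        | tmul a b => simp))
    (Ideal.Quotient.mk_surjective.forall.mpr fun t => by
      have h := LinearMap.congr_fun (HopfRep.Comod.counit_comp (k := k) (A := A) (V := T)) t
      simp only [LinearMap.comp_apply, LinearMap.flip_apply, TensorProduct.mk_apply] at h
      have h' := congrArg ((Ideal.Quotient.mkₐ k I).toLinearMap.rTensor k) h
      simp only [counitL, AlgHom.comp_apply, hρ, ψ, GLin.coactAlgHom_apply]
      refine Eq.trans ?_ (h'.trans ?_)
      · induction HopfRep.Comod.coact (k := k) (A := A) t using TensorProduct.induction_on with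
        | zero => simp
        | add p q hp hq => simp only [map_add, hp, hq]
        | tmul a b => simp
      · simp)
  exact ⟨c, hc, fun t => e _⟩

end Quot

end Groth.Agent.LunaSlice
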