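import Groth.Agent.LunaSlice.Taylor
import Groth.Agent.S8973
import Groth.Agent.CotTLib.SmoothField
import Groth.Agent.RegLoc6.Normal
import Mathlib

/-!
# The slice equations are étale over the ambient space along the diagonal
-/

set_option autoImplicit false
set_option linter.unusedSectionVars false
set_option maxHeartbeats 1000000

universe u

open MvPolynomial

namespace Groth.Agent.LunaSlice

/-- The Jacobian criterion for a square system. -/
theorem etaleAt_square {A : Type u} [CommRing A] {m : ℕ} (v : Fin m → MvPolynomial (Fin m) A)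
    (q : Ideal (MvPolynomial (Fin m) A ⧸ Ideal.span (Set.range v))) [q.IsPrime]
    (hq : Ideal.Quotient.mk _ (Matrix.of fun i j => pderiv i (v j)).det ∉ q) : Algebra.IsEtaleAt A q := by
  classical
  let C := MvPolynomial (Fin m) A ⧸ Ideal.span (Set.range v)
  let P : Algebra.PreSubmersivePresentation A C (Fin m) (Fin m) :=
    Algebra.PreSubmersivePresentation.naive id Function.injective_id
  have hjac : P.jacobian = Ideal.Quotient.mk _ (Matrix.of fun i j => pderiv i (v j)).det := by
    rw [Algebra.PreSubmersivePresentation.jacobian_eq_jacobiMatrix_det,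
      show P.jacobiMatrix = Matrix.of fun i j => pderiv i (v j) from Matrix.ext fun i j => by
        rw [Algebra.PreSubmersivePresentation.jacobiMatrix_apply]; rfl]
    rfl
  let T := Localization.Away P.jacobian
  have hu : IsUnit (algebraMap C T P.jacobian) := IsLocalization.Away.algebraMap_isUnit _
  let S0 : Algebra.SubmersivePresentation A T (Unit ⊕ Fin m) (Unit ⊕ Fin m) :=
    { __ := (Algebra.PreSubmersivePresentation.localizationAway T P.jacobian).comp P
      jacobian_isUnit := by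
        rw [Algebra.PreSubmersivePresentation.comp_jacobian_eq_jacobian_smul_jacobian, Algebra.smul_def,
          IsUnit.mul_iff, Algebra.PreSubmersivePresentation.localizationAway_jacobian]
        exact ⟨hu, hu⟩ }
  haveI : Algebra.IsStandardSmoothOfRelativeDimension 0 A T := S0.isStandardSmoothOfRelativeDimension (by
    simp [Algebra.Presentation.dimension])
  haveI : Algebra.Etale A T := inferInstance
  rw [← hjac] at hq
  letI : Algebra T (Localization.AtPrime q) :=
    (IsLocalization.Away.lift P.jacobian (IsLocalization.map_units (Localization.AtPrime q)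
      (⟨P.jacobian, hq⟩ : q.primeCompl))).toAlgebra
  haveI : IsScalarTower C T (Localization.AtPrime q) :=
    IsScalarTower.of_algebraMap_eq (R := C) (S := T) (A := Localization.AtPrime q) fun x =>
      (IsLocalization.Away.lift_eq P.jacobian (IsLocalization.map_units (Localization.AtPrime q)
        (⟨P.jacobian, hq⟩ : q.primeCompl)) x).symm
  haveI : IsScalarTower A T (Localization.AtPrime q) := IsScalarTower.of_algebraMap_eq fun x => by
    rw [IsScalarTower.algebraMap_apply A C (Localization.AtPrime q),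
      IsScalarTower.algebraMap_apply C T (Localization.AtPrime q), ← IsScalarTower.algebraMap_apply A C T]
  have hle : Submonoid.powers P.jacobian ≤ q.primeCompl := Submonoid.powers_le.2 hq
  haveI : IsLocalization (q.primeCompl.map (algebraMap C T)) (Localization.AtPrime q) :=
    IsLocalization.isLocalization_of_submonoid_le T (Localization.AtPrime q) (Submonoid.powers P.jacobian) q.primeCompl hle
  haveI : Algebra.FormallyEtale T (Localization.AtPrime q) :=
    Algebra.FormallyEtale.of_isLocalization (q.primeCompl.map (algebraMap C T))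
  exact Algebra.FormallyEtale.comp A T (Localization.AtPrime q)

variable {k : Type u} [Field k] {n : ℕ}

local notation "Px" => MvPolynomial (Fin n) k
local notation "T2" => MvPolynomial (Fin n ⊕ Fin n) k

/-- The equations of the slice attached to a matrix. -/
noncomputable def eqn (c : Fin n → Fin n → MvPolynomial (Fin n) k) (l : Fin n) : MvPolynomial (Fin n ⊕ Fin n) k :=
  ∑ i, inlA k n (c l i) * delta i

variable (J : Ideal (MvPolynomial (Fin n) k))

/-- The ideal of the slice. -/
noncomputable def sliceIdeal (c : Fin n → Fin n → MvPolynomial (Fin n) k) : Ideal (MvPolynomial (Fin n ⊕ Fin n) k) :=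
  J.map (inlA k n) ⊔ Ideal.span (Set.range (eqn c))

variable (u : (Fin n → MvPolynomial (Fin n) k ⧸ J) →ₗ[MvPolynomial (Fin n) k ⧸ J]
  (Fin n → MvPolynomial (Fin n) k ⧸ J))

variable {J}

theorem u_idem (hK : ∀ m ∈ K0 J, u m = 0) (hid : ∀ m, u m - m ∈ K0 J) (m : Fin n → Px ⧸ J) : u (u m) = u m := by
  have := hK _ (hid m)
  rw [map_sub] at this
  exact sub_eq_zero.mp this

theorem u_apply (m : Fin n → Px ⧸ J) : u m = ∑ l, m l • u (Pi.single l 1) := by
  classical
  conv_lhs => rw [show m = ∑ l, m l • (Pi.single l 1 : Fin n → Px ⧸ J) from pi_eq_sum_univ' m]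
  simp only [map_sum, map_smul]

theorem diag_pderiv_eqn (c : Fin n → Fin n → Px) (l i : Fin n) :
    diag k n (pderiv (Sum.inl i) (eqn c l)) = - c l i := by
  classical
  rw [eqn, map_sum, map_sum]
  rw [Finset.sum_eq_single i]
  · rw [Derivation.leibniz, map_add, smul_eq_mul, smul_eq_mul, map_mul, map_mul, diag_inlA, diag_delta,
      pderiv_inl_delta, if_pos rfl]
    simp
  · intro j _ hj
    rw [Derivation.leibniz, map_add, smul_eq_mul, smul_eq_mul, map_mul, map_mul, diag_inlA, diag_delta,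
      pderiv_inl_delta, if_neg (Ne.symm hj)]
    simp
  · simp

/-- A quotient with kernel vanishing in the local ring is étale where the source is. -/
theorem isEtaleAt_of_ker {S C R : Type u} [CommRing S] [CommRing C] [CommRing R] [Algebra S C] [Algebra S R]
    (q : C →ₐ[S] R) (hq : Function.Surjective q) (m : Ideal R) [m.IsPrime] (p : Ideal C) [p.IsPrime]
    (hp : ∀ z, z ∈ p ↔ q z ∈ m) (hker : ∀ z, q z = 0 → algebraMap C (Localization.AtPrime p) z = 0)
    (het : Algebra.IsEtaleAt S p) : Algebra.IsEtaleAt S m := by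
  let Λ := Localization.AtPrime p
  let ψ : R →ₐ[S] Λ := AlgHom.liftOfSurjective q hq (IsScalarTower.toAlgHom S C Λ) fun z hz => hker z hz
  have hψ : ∀ z, ψ (q z) = algebraMap C Λ z := fun z =>
    AlgHom.congr_fun (AlgHom.liftOfSurjective_comp q hq (IsScalarTower.toAlgHom S C Λ) fun z hz => hker z hz) z
  letI : Algebra R Λ := ψ.toRingHom.toAlgebra
  haveI : IsScalarTower S R Λ := IsScalarTower.of_algebraMap_eq fun s => (ψ.commutes s).symm
  haveI : IsLocalization.AtPrime Λ m := by
    constructor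
    constructor
    · rintro ⟨r, hr⟩
      obtain ⟨z, rfl⟩ := hq r
      show IsUnit (ψ (q z))
      rw [hψ]
      exact IsLocalization.map_units Λ (⟨z, fun h => hr ((hp z).mp h)⟩ : p.primeCompl)
    · intro z
      obtain ⟨⟨a, s⟩, e⟩ := IsLocalization.surj p.primeCompl z
      refine ⟨⟨q a, ⟨q s, fun h => s.2 ((hp _).mpr h)⟩⟩, ?_⟩
      show z * ψ (q s) = ψ (q a)
      rw [hψ, hψ]; exact e
    · intro a a' e
      obtain ⟨z, rfl⟩ := hq a
      obtain ⟨z', rfl⟩ := hq a'
      change ψ _ = ψ _ at e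
      rw [hψ, hψ, IsLocalization.eq_iff_exists p.primeCompl] at e
      obtain ⟨s, hs⟩ := e
      refine ⟨⟨q s, fun h => s.2 ((hp _).mpr h)⟩, ?_⟩
      show q s * q z = q s * q z'
      rw [← map_mul, ← map_mul, hs]
  haveI : Algebra.FormallyEtale S Λ := het
  exact Algebra.FormallyEtale.of_equiv
    ((IsLocalization.algEquiv m.primeCompl Λ (Localization.AtPrime m)).restrictScalars S)

/-- Relations among functions with the differentials of the matrix. -/
theorem sum_mul_mem_sq {θ : Fin n → Px} (hθ : ∀ l, θ l ∈ J)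
    (hdec : ∀ h ∈ J, h + ∑ l, pderiv l h * θ l ∈ J * J)
    {h : Fin n → Px} (hh : ∀ l, h l ∈ J) (hdh : ∀ l, D J (inrA k n (h l)) = u (Pi.single l 1) - Pi.single l 1)
    (r : Fin n → Px) (m : Fin n → Px ⧸ J) (hr : ∀ l, Ideal.Quotient.mk J (r l) = m l) :
    D J (inrA k n (∑ l, r l * h l)) = u m - m ∧
      (u m = m → ∑ l, r l * h l ∈ J * J) := by
  classical
  have e : D J (inrA k n (∑ l, r l * h l)) = u m - m := by
    rw [map_sum, map_sum, Finset.sum_congr rfl fun l _ => D_inrA_mul_of_mem J (r l) (hh l)]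
    simp only [hdh, hr, smul_sub, Finset.sum_sub_distrib]
    rw [← u_apply, ← pi_eq_sum_univ']
  exact ⟨e, fun hm => mem_sq_of_D_eq_zero J hθ hdec (Ideal.sum_mem _ fun l _ => J.mul_mem_left _ (hh l))
    (by rw [e, hm, sub_self])⟩

/-- Near a point of the diagonal the slice ideal is generated by the modified equations. -/
theorem slice_vanish {θ : Fin n → Px} (hθ : ∀ l, θ l ∈ J)
    (hdec : ∀ h ∈ J, h + ∑ l, pderiv l h * θ l ∈ J * J)
    (hK : ∀ m ∈ K0 J, u m = 0) (hid : ∀ m, u m - m ∈ K0 J)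
    (c : Fin n → Fin n → Px) (hc : ∀ l i, Ideal.Quotient.mk J (c l i) = u (Pi.single l 1) i)
    (x : Px →ₐ[k] k) (hx : J ≤ RingHom.ker x)
    (h : Fin n → Px) (hh : ∀ l, h l ∈ J) (hdh : ∀ l, D J (inrA k n (h l)) = u (Pi.single l 1) - Pi.single l 1)
    {Λ : Type u} [CommRing Λ] [IsNoetherianRing Λ] [IsLocalRing Λ] [IsDomain Λ] [Algebra k Λ]
    (πΛ : T2 →ₐ[k] Λ) (hπv : ∀ l, πΛ (eqn c l) = - πΛ (inlA k n (h l)))
    (hpt : ∀ t, x (diag k n t) = 0 → πΛ t ∈ IsLocalRing.maximalIdeal Λ) :
    ∀ t ∈ (sliceIdeal J c).radical, πΛ t = 0 := by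
  classical
  let 𝒥 : Ideal Λ := J.map (πΛ.comp (inlA k n))
  have hJm : 𝒥 ≤ IsLocalRing.maximalIdeal Λ := Ideal.map_le_iff_le_comap.mpr fun f hf =>
    hpt _ (show x (diag k n (inlA k n f)) = 0 by rw [diag_inlA]; exact hx hf)
  have hΔ : ∀ i, πΛ (delta i) ∈ IsLocalRing.maximalIdeal Λ := fun i => hpt _ (by rw [diag_delta, map_zero])
  have hmem : ∀ f ∈ J, πΛ (inlA k n f) ∈ 𝒥 := fun f hf => Ideal.mem_map_of_mem (πΛ.comp (inlA k n)) hf
  have hsq : ∀ f ∈ J * J, πΛ (inlA k n f) ∈ IsLocalRing.maximalIdeal Λ • 𝒥 := fun f hf => by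
    rw [smul_eq_mul]
    refine Submodule.mul_induction_on hf (fun a ha b hb => ?_) fun a b ha hb => by
      rw [map_add, map_add]; exact add_mem ha hb
    rw [map_mul, map_mul]
    exact Ideal.mul_mem_mul (hJm (hmem a ha)) (hmem b hb)
  have hmh : ∀ l, πΛ (inlA k n (h l)) ∈ IsLocalRing.maximalIdeal Λ • 𝒥 := fun l => by
    have hdiff : ∀ j, c l j - ∑ i, c l i * c i j ∈ J := fun j => by
      rw [← Ideal.Quotient.eq_zero_iff_mem, map_sub, map_sum, sub_eq_zero]
      simp only [map_mul, hc]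
      conv_lhs => rw [← u_idem u hK hid, u_apply u (u (Pi.single l 1))]
      simp [Finset.sum_apply]
    have e1 : eqn c l - ∑ i, inlA k n (c l i) * eqn c i =
        ∑ j, inlA k n (c l j - ∑ i, c l i * c i j) * delta j := by
      simp only [eqn, Finset.mul_sum, map_sub, map_sum, map_mul, sub_mul, Finset.sum_mul, Finset.sum_sub_distrib]
      congr 1
      rw [Finset.sum_comm]
      simp only [mul_assoc]
    have e2 : πΛ (eqn c l - ∑ i, inlA k n (c l i) * eqn c i) ∈ IsLocalRing.maximalIdeal Λ • 𝒥 := by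
      rw [e1, map_sum, smul_eq_mul]
      refine Ideal.sum_mem _ fun j _ => ?_
      rw [map_mul, mul_comm (πΛ _)]
      exact Ideal.mul_mem_mul (hΔ j) (hmem _ (hdiff j))
    have e3 : ∑ i, c l i * h i ∈ J * J :=
      (sum_mul_mem_sq u hθ hdec hh hdh (c l) (u (Pi.single l 1)) (hc l)).2 (u_idem u hK hid _)
    have e5 := hπv
    have e6 := hsq _ e3
    rw [map_sum, map_sum] at e6
    simp only [map_sub, map_sum, map_mul, e5, mul_neg, Finset.sum_neg_distrib, sub_neg_eq_add] at e2
    simp only [map_mul] at e6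
    have := sub_mem e6 e2
    convert this using 1
    ring
  have hJ0 : 𝒥 = ⊥ := by
    refine Submodule.eq_bot_of_le_smul_of_le_jacobson_bot (IsLocalRing.maximalIdeal Λ) 𝒥
      (IsNoetherian.noetherian _) ?_ (IsLocalRing.maximalIdeal_le_jacobson (⊥ : Ideal Λ))
    show 𝒥 ≤ _
    refine Ideal.map_le_iff_le_comap.mpr fun f hf => ?_
    rw [Ideal.mem_comap, AlgHom.comp_apply]
    choose r hr using fun l => Ideal.Quotient.mk_surjective (D J (inrA k n f) l)
    have h2 : f + ∑ l, r l * h l ∈ J * J := by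
      refine mem_sq_of_D_eq_zero J hθ hdec (add_mem hf (Ideal.sum_mem _ fun l _ => J.mul_mem_left _ (hh l))) ?_
      rw [map_add, map_add, (sum_mul_mem_sq u hθ hdec hh hdh r _ hr).1, hK _ ⟨f, hf, rfl⟩, zero_sub, add_neg_cancel]
    have h3 := hsq _ h2
    simp only [map_add, map_sum, map_mul] at h3
    exact (Submodule.add_mem_iff_left _ (Submodule.sum_mem _ fun l _ => Submodule.smul_mem _ _ (hmh l))).mp h3
  intro t ht
  obtain ⟨N, hN⟩ := ht
  have hle : sliceIdeal J c ≤ RingHom.ker πΛ := by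
    refine sup_le (Ideal.map_le_iff_le_comap.mpr fun f hf => ?_) (Ideal.span_le.mpr ?_)
    · exact (Ideal.mem_bot.mp (hJ0 ▸ hmem f hf) :)
    · rintro _ ⟨l, rfl⟩
      have h0 : πΛ (inlA k n (h l)) = 0 := Ideal.mem_bot.mp (hJ0 ▸ hmem _ (hh l))
      show πΛ (eqn c l) = 0
      rw [hπv]
      exact neg_eq_zero.mpr h0
  have : πΛ t ^ N = 0 := by rw [← map_pow]; exact hle hN
  exact pow_eq_zero_iff'.mp this |>.1

theorem regular_of_etaleAt {C : Type u} [CommRing C] [Algebra k C] [Algebra Px C] [IsScalarTower k Px C]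
    [Algebra.FiniteType k C] (q : Ideal C) [q.IsPrime] (het : Algebra.IsEtaleAt Px q) :
    IsDomain (Localization.AtPrime q) ∧ IsIntegrallyClosed (Localization.AtPrime q) := by
  haveI : Algebra.FormallyEtale Px (Localization.AtPrime q) := het
  haveI : Algebra.IsSmoothAt k q := Algebra.FormallySmooth.comp k Px (Localization.AtPrime q)
  haveI := CotTLib.isRegularLocalRing_of_isSmoothAt (k := k) q
  exact ⟨RegLoc6.isDomain_of_isRegularLocalRing _, RegLoc6.isIntegrallyClosed_of_isRegularLocalRing _⟩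

/-- The slice ideal vanishes in the local ring of the modified equations. -/
theorem slice_vanish_localRing {θ : Fin n → Px} (hθ : ∀ l, θ l ∈ J)
    (hdec : ∀ h ∈ J, h + ∑ l, pderiv l h * θ l ∈ J * J)
    (hK : ∀ m ∈ K0 J, u m = 0) (hid : ∀ m, u m - m ∈ K0 J)
    (c : Fin n → Fin n → Px) (hc : ∀ l i, Ideal.Quotient.mk J (c l i) = u (Pi.single l 1) i)
    (x : Px →ₐ[k] k) (hx : J ≤ RingHom.ker x)
    (h : Fin n → Px) (hh : ∀ l, h l ∈ J) (hdh : ∀ l, D J (inrA k n (h l)) = u (Pi.single l 1) - Pi.single l 1)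
    {C : Type u} [CommRing C] [Algebra k C] [Algebra Px C] [IsScalarTower k Px C]
    [Algebra.FiniteType k C] (π : T2 →ₐ[k] C) (hπv : ∀ l, π (eqn c l) = - π (inlA k n (h l)))
    (q₀ : Ideal C) [q₀.IsPrime] (hq₀ : ∀ t, x (diag k n t) = 0 → π t ∈ q₀) (het : Algebra.IsEtaleAt Px q₀) :
    ∀ t ∈ (sliceIdeal J c).radical, algebraMap C (Localization.AtPrime q₀) (π t) = 0 := by
  haveI : IsNoetherianRing C := Algebra.FiniteType.isNoetherianRing k C
  haveI := (regular_of_etaleAt (k := k) q₀ het).1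
  refine slice_vanish u hθ hdec hK hid c hc x hx h hh hdh
    ((IsScalarTower.toAlgHom k C (Localization.AtPrime q₀)).comp π) (fun l => ?_) (fun t ht => ?_)
  · rw [AlgHom.comp_apply, hπv, map_neg]
    rfl
  · rw [← IsLocalization.AtPrime.map_eq_maximalIdeal q₀]
    exact Ideal.mem_map_of_mem _ (hq₀ t ht)

/-- At a point of the diagonal over `V(J)` the slice is étale over the space and regular. -/
theorem isEtaleAt_slice {θ : Fin n → Px} (hθ : ∀ l, θ l ∈ J)
    (hdec : ∀ h ∈ J, h + ∑ l, pderiv l h * θ l ∈ J * J)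
    (hK : ∀ m ∈ K0 J, u m = 0) (hid : ∀ m, u m - m ∈ K0 J)
    (c : Fin n → Fin n → Px) (hc : ∀ l i, Ideal.Quotient.mk J (c l i) = u (Pi.single l 1) i)
    (x : Px →ₐ[k] k) (hx : J ≤ RingHom.ker x)
    [Algebra Px (T2 ⧸ (sliceIdeal J c).radical)] [IsScalarTower k Px (T2 ⧸ (sliceIdeal J c).radical)]
    (halg : ∀ f, algebraMap Px (T2 ⧸ (sliceIdeal J c).radical) f = Ideal.Quotient.mk _ (inrA k n f))
    (b : (T2 ⧸ (sliceIdeal J c).radical) →ₐ[k] k)
    (hb : ∀ t, b (Ideal.Quotient.mk _ t) = x (diag k n t))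
    (m : Ideal (T2 ⧸ (sliceIdeal J c).radical)) [m.IsMaximal] (hm : m = RingHom.ker b.toRingHom) :
    Algebra.IsEtaleAt Px m ∧ IsDomain (Localization.AtPrime m) ∧ IsIntegrallyClosed (Localization.AtPrime m) := by
  classical
  -- functions with prescribed differentials
  have hex : ∀ l, ∃ h ∈ J, D J (inrA k n h) = u (Pi.single l 1) - Pi.single l 1 := fun l => hid _
  choose h hh hdh using hex
  let v : Fin n → MvPolynomial (Fin n) Px :=
    fun l => sumAlgEquiv k (Fin n) (Fin n) (eqn c l + inlA k n (h l))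
  let C := MvPolynomial (Fin n) Px ⧸ Ideal.span (Set.range v)
  let π : T2 →ₐ[k] C :=
    (Ideal.Quotient.mkₐ k (Ideal.span (Set.range v))).comp (sumAlgEquiv k (Fin n) (Fin n)).toAlgHom
  have hπs : Function.Surjective π := Ideal.Quotient.mk_surjective.comp (sumAlgEquiv k (Fin n) (Fin n)).surjective
  have hπv : ∀ l, π (eqn c l) = - π (inlA k n (h l)) := fun l => by
    have : π (eqn c l + inlA k n (h l)) = 0 :=
      Ideal.Quotient.eq_zero_iff_mem.mpr (Ideal.subset_span ⟨l, rfl⟩)
    rw [map_add] at this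
    exact eq_neg_of_add_eq_zero_left this
  have hπr : ∀ f, π (inrA k n f) = algebraMap Px C f := fun f => by
    show _ = Ideal.Quotient.mk _ (MvPolynomial.C f)
    show Ideal.Quotient.mk _ (sumAlgEquiv k (Fin n) (Fin n) (inrA k n f)) = _
    congr 1
    refine AlgHom.congr_fun (show (sumAlgEquiv k (Fin n) (Fin n)).toAlgHom.comp (inrA k n) =
      IsScalarTower.toAlgHom k Px (MvPolynomial (Fin n) Px) from MvPolynomial.algHom_ext fun i => ?_) f
    simp [inrA, sumAlgEquiv_X_inr]
  have hI : ∀ t ∈ sliceIdeal J c, x (diag k n t) = 0 := fun t ht => by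
    rw [← hb, Ideal.Quotient.eq_zero_iff_mem.mpr (Ideal.le_radical ht), map_zero]
  -- the point of `C`
  let bC₀ : MvPolynomial (Fin n) Px →ₐ[k] k :=
    (x.comp (diag k n)).comp (sumAlgEquiv k (Fin n) (Fin n)).symm.toAlgHom
  have hC0 : ∀ a ∈ Ideal.span (Set.range v), bC₀ a = 0 := fun a ha => by
    refine (Ideal.span_le.mpr ?_ : Ideal.span (Set.range v) ≤ RingHom.ker bC₀) ha
    rintro _ ⟨l, rfl⟩
    show x (diag k n ((sumAlgEquiv k (Fin n) (Fin n)).symm (sumAlgEquiv k (Fin n) (Fin n) _))) = 0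
    rw [AlgEquiv.symm_apply_apply, map_add, map_add, diag_inlA, RingHom.mem_ker.mp (hx (hh l)), add_zero]
    exact hI _ (Submodule.mem_sup_right (Ideal.subset_span ⟨l, rfl⟩))
  let bC : C →ₐ[k] k := Ideal.Quotient.liftₐ _ bC₀ hC0
  have hbC : ∀ t, bC (π t) = x (diag k n t) := fun t => by
    show bC₀ (sumAlgEquiv k (Fin n) (Fin n) t) = _
    simp [bC₀]
  let q₀ : Ideal (MvPolynomial (Fin n) Px ⧸ Ideal.span (Set.range v)) := RingHom.ker bC
  haveI : q₀.IsPrime := RingHom.ker_isPrime _
  -- the Jacobian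
  have hdet : Ideal.Quotient.mk _ (Matrix.of fun i j => pderiv i (v j)).det ∉ q₀ := by
    intro hmem
    have h1 : bC₀ (Matrix.of fun i j => pderiv i (v j)).det = 0 := hmem
    have hM : (Matrix.of fun i j => pderiv i (v j)).map bC₀ = -(1 : Matrix (Fin n) (Fin n) k) := by
      refine Matrix.ext fun i l => ?_
      simp only [Matrix.map_apply, Matrix.of_apply, v, pderiv_sumAlgEquiv, Matrix.neg_apply, Matrix.one_apply]
      show x (diag k n ((sumAlgEquiv k (Fin n) (Fin n)).symm (sumAlgEquiv k (Fin n) (Fin n) _))) = _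
      rw [AlgEquiv.symm_apply_apply, map_add, pderiv_inl_inlA, map_add, diag_inlA, diag_pderiv_eqn]
      have e : Ideal.Quotient.mk J (pderiv i (h l)) = Ideal.Quotient.mk J (c l i - if l = i then 1 else 0) := by
        rw [map_sub, ← D_inrA, hdh, Pi.sub_apply, hc, Pi.single_apply]
        congr 1
        by_cases hli : i = l
        · rw [if_pos hli, if_pos hli.symm, map_one]
        · rw [if_neg hli, if_neg (Ne.symm hli), map_zero]
      have e' := RingHom.mem_ker.mp (hx (Ideal.Quotient.eq.mp e))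
      rw [map_sub, sub_eq_zero] at e'
      rw [map_add, e', map_neg, map_sub, neg_add_eq_sub, sub_sub_cancel_left]
      by_cases hli : i = l
      · rw [if_pos hli, if_pos hli.symm, map_one]
      · rw [if_neg hli, if_neg (Ne.symm hli), map_zero]
    rw [AlgHom.map_det, AlgHom.mapMatrix_apply, hM, Matrix.det_neg] at h1
    simp at h1
  have het := etaleAt_square v q₀ hdet
  have hI0 := slice_vanish_localRing (C := MvPolynomial (Fin n) Px ⧸ Ideal.span (Set.range v)) u hθ hdec hK hid c hc
    x hx h hh hdh π hπv q₀ (fun t ht => show bC (π t) = 0 by rw [hbC, ht]) het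
  -- the slice has the same local ring
  let R' := T2 ⧸ (sliceIdeal J c).radical
  let q₁ : MvPolynomial (Fin n) Px →ₐ[Px] R' := MvPolynomial.aeval fun i => Ideal.Quotient.mk _ (X (Sum.inl i))
  have hq₁ : ∀ t, q₁ (sumAlgEquiv k (Fin n) (Fin n) t) = Ideal.Quotient.mk _ t := fun t => by
    refine AlgHom.congr_fun (show (q₁.restrictScalars k).comp (sumAlgEquiv k (Fin n) (Fin n)).toAlgHom =
      Ideal.Quotient.mkₐ k _ from MvPolynomial.algHom_ext fun v => ?_) t
    rcases v with i | i
    · simp [q₁, sumAlgEquiv_X_inl]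
      rfl
    · simp [q₁, sumAlgEquiv_X_inr]
      rw [halg]
      simp [inrA]
      rfl
  let q : C →ₐ[Px] R' := Ideal.Quotient.liftₐ _ q₁ fun a ha => by
    refine (Ideal.span_le.mpr ?_ : Ideal.span (Set.range v) ≤ RingHom.ker q₁) ha
    rintro _ ⟨l, rfl⟩
    show q₁ (sumAlgEquiv k (Fin n) (Fin n) _) = 0
    rw [hq₁]
    refine Ideal.Quotient.eq_zero_iff_mem.mpr (Ideal.le_radical (add_mem ?_ ?_))
    · exact Submodule.mem_sup_right (Ideal.subset_span ⟨l, rfl⟩)
    · exact Submodule.mem_sup_left (Ideal.mem_map_of_mem _ (hh l))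
  have hqπ : ∀ t, q (π t) = Ideal.Quotient.mk _ t := hq₁
  have hqs : Function.Surjective q := fun y => by
    obtain ⟨t, rfl⟩ := Ideal.Quotient.mk_surjective y
    exact ⟨π t, hqπ t⟩
  have h1 : Algebra.IsEtaleAt Px m := isEtaleAt_of_ker (C := MvPolynomial (Fin n) Px ⧸ Ideal.span (Set.range v)) q hqs m q₀ (fun z => by
    obtain ⟨t, rfl⟩ := hπs z
    show bC (π t) = 0 ↔ _
    rw [hqπ, hm, hbC, ← hb]
    rfl) (fun z hz => by
    obtain ⟨t, rfl⟩ := hπs z
    rw [hqπ] at hz
    exact hI0 t (Ideal.Quotient.eq_zero_iff_mem.mp hz)) het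
  exact ⟨h1, regular_of_etaleAt m h1⟩

end Groth.Agent.LunaSlice
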