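import Groth.Agent.LunaSlice.Setup
import Groth.Agent.LunaEt.Embed
import Groth.Agent.ComodLib.ReducedSmooth
import Groth.Agent.S19407

/-!
# Stabilisers near a closed orbit

An affine variety with an action embeds equivariantly in a representation; there the slice along the closed orbit is
étale over the space, so by the fundamental lemma nearby closed orbits have stabilisers in those of the slice, which
fixes points of the orbit.
-/

set_option autoImplicit false
set_option linter.unusedSectionVars false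
set_option maxHeartbeats 1000000

universe u

open TensorProduct WithConv MvPolynomial

namespace Groth.Agent.LunaSlice

open ComodLib GLin

variable {k : Type u} [Field k] {A : Type u} [CommRing A] [HopfAlgebra k A]

theorem IsEquiv.comp {S R T : Type u} [CommRing S] [Algebra k S] [HopfRep.Comod k A S]
    [CommRing R] [Algebra k R] [HopfRep.Comod k A R] [CommRing T] [Algebra k T] [HopfRep.Comod k A T]
    {φ : S →ₐ[k] R} {ψ : R →ₐ[k] T} (hψ : IsEquiv A ψ) (hφ : IsEquiv A φ) : IsEquiv A (ψ.comp φ) := fun s => by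
  rw [AlgHom.comp_apply, hψ, hφ]
  induction HopfRep.Comod.coact (k := k) (A := A) s using TensorProduct.induction_on with
  | zero => simp
  | tmul a b => simp
  | add p q hp hq => simp only [map_add, hp, hq]

/-- An algebra map of polynomial rings with linear coactions is equivariant if it is so on the variables. -/
theorem isEquiv_of_X {σ : Type} {T : Type u} [CommRing T] [Algebra k T] [HopfRep.Comod k A T]
    [GLin.IsCoactAlg k A T] [HopfRep.Comod k A (MvPolynomial σ k)] [GLin.IsCoactAlg k A (MvPolynomial σ k)]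
    (φ : MvPolynomial σ k →ₐ[k] T)
    (h : ∀ j, HopfRep.Comod.coact (k := k) (A := A) (φ (X j)) =
      Algebra.TensorProduct.map φ (AlgHom.id k A) (HopfRep.Comod.coact (k := k) (A := A) (X j : MvPolynomial σ k))) :
    IsEquiv A φ := fun s =>
  AlgHom.congr_fun (show (GLin.coactAlgHom k A T).comp φ =
    (Algebra.TensorProduct.map φ (AlgHom.id k A)).comp (GLin.coactAlgHom k A (MvPolynomial σ k)) from
      MvPolynomial.algHom_ext h) s

theorem isComodMatrix_blocks {n : ℕ} {M : Fin n → Fin n → A} (hM : IsComodMatrix k M) :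
    IsComodMatrix k fun i j : Fin n ⊕ Fin n => Matrix.fromBlocks (Matrix.of M) 0 0 (Matrix.of M) i j := by
  classical
  constructor
  · rintro (i | i) (j | j) <;> simp [Fintype.sum_sum_type, hM.comul]
  · rintro (i | i) (j | j) <;> simp [hM.counit]

variable [IsAlgClosed k] [Algebra.FiniteType k A]

/-- A quotient homogeneous on rational points is smooth. -/
theorem formallySmooth_orbit [_root_.IsReduced A] {n : ℕ} [HopfRep.Comod k A (MvPolynomial (Fin n) k)]
    [GLin.IsCoactAlg k A (MvPolynomial (Fin n) k)] (y : MvPolynomial (Fin n) k →ₐ[k] k) (hy : IsClosedOrbit k A y) :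
    Algebra.FormallySmooth k (MvPolynomial (Fin n) k ⧸ RingHom.ker (orbitHom k A y)) := by
  set J := RingHom.ker (orbitHom k A y) with hJ
  haveI : _root_.IsReduced (MvPolynomial (Fin n) k ⧸ J) :=
    isReduced_of_injective (RingHom.kerLift (orbitHom k A y).toRingHom)
      (RingHom.kerLift_injective (orbitHom k A y).toRingHom)
  let τ : (A →ₐ[k] k) → (MvPolynomial (Fin n) k ⧸ J) →ₐ[k] MvPolynomial (Fin n) k ⧸ J := fun g =>
    Ideal.Quotient.liftₐ J ((Ideal.Quotient.mkₐ k J).comp (EquivZMT.evalHom g)) fun f hf =>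
      Ideal.Quotient.eq_zero_iff_mem.mpr (by
        show EquivZMT.evalHom g f ∈ J
        rw [EquivZMT.evalHom_apply]
        exact subcomod_actF_mem (isSubcomod_ker_orbitHom (A := A) y) _ hf)
  have hτ : ∀ g f, τ g (Ideal.Quotient.mk J f) =
      Ideal.Quotient.mk J (HopfRep.Comod.act k A (MvPolynomial (Fin n) k) g f) := fun g f => by
    show Ideal.Quotient.mk J (EquivZMT.evalHom g f) = _
    rw [EquivZMT.evalHom_apply]
    rfl
  have hinv : ∀ g : WithConv (A →ₐ[k] k), (τ g.ofConv).comp (τ g⁻¹.ofConv) = AlgHom.id k _ := fun g =>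
    Ideal.Quotient.algHom_ext k (AlgHom.ext fun f => by
      simp only [AlgHom.comp_apply, Ideal.Quotient.mkₐ_eq_mk, hτ, AlgHom.id_apply]
      exact congrArg _ (LunaEt.act_inv_act g.ofConv f))
  refine RedSm.formallySmooth_of_transitive fun p q => ?_
  have hpt : ∀ p : (MvPolynomial (Fin n) k ⧸ J) →ₐ[k] k, ∃ β : A →ₐ[k] k, p.comp (Ideal.Quotient.mkₐ k J) = actPt k β y :=
    fun p => mem_orbit_of_isClosedOrbit hy fun f hf => by
      show p (Ideal.Quotient.mk J f) = 0
      rw [Ideal.Quotient.eq_zero_iff_mem.mpr hf, map_zero]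
  obtain ⟨β, hβ⟩ := hpt p
  obtain ⟨β', hβ'⟩ := hpt q
  let γ : WithConv (A →ₐ[k] k) := (toConv β)⁻¹ * toConv β'
  have hγ : actPt k γ.ofConv (p.comp (Ideal.Quotient.mkₐ k J)) = q.comp (Ideal.Quotient.mkₐ k J) := by
    rw [hβ, hβ', actPt_convMul]
    exact congrArg (actPt k β') (actPt_inv_conv (toConv β) y)
  refine ⟨AlgEquiv.ofAlgHom (τ γ.ofConv) (τ γ⁻¹.ofConv) (hinv γ) (by simpa using hinv γ⁻¹),
    Ideal.Quotient.algHom_ext k (AlgHom.ext fun f => ?_)⟩
  rw [← hγ, actPt_apply_eq_act]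
  exact congrArg p (hτ γ.ofConv f).symm

variable [CharZero k] [IsDomain A]

theorem exists_nhd (hG : HopfRep.IsLinearlyReductive k A)
    {R : Type u} [CommRing R] [_root_.IsReduced R] [Algebra k R] [Algebra.FiniteType k R] [HopfRep.Comod k A R]
    [GLin.IsCoactAlg k A R] (x : R →ₐ[k] k) (hx : IsClosedOrbit k A x) :
    ∃ f ∈ invariants k A R, x f ≠ 0 ∧
      ∀ x' : R →ₐ[k] k, x' f ≠ 0 → IsClosedOrbit k A x' →
        ∃ g : A →ₐ[k] k, stabIdeal k A x ≤ stabIdeal k A (actPt k g x') := by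
  classical
  -- the representation
  obtain ⟨Gr, hGr⟩ := (Algebra.FiniteType.out : (⊤ : Subalgebra k R).FG)
  obtain ⟨n, w, M, hM, hw, hspan⟩ := LunaEt.exists_family (k := k) (A := A) Gr.finite_toSet
  obtain ⟨cP, hcP, hX⟩ := LunaEt.exists_comod_mvPolynomial M hM
  letI := cP
  haveI := hcP
  obtain ⟨cT, hcT, hXT⟩ := LunaEt.exists_comod_mvPolynomial _ (isComodMatrix_blocks hM)
  letI := cT
  haveI := hcT
  let π : MvPolynomial (Fin n) k →ₐ[k] R := MvPolynomial.aeval w
  have hπX : ∀ i, π (X i) = w i := fun i => MvPolynomial.aeval_X _ i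
  have hπ : IsEquiv A π := isEquiv_of_X π fun j => by
    rw [hπX, hw, hX, map_sum]
    exact Finset.sum_congr rfl fun i _ => by rw [Algebra.TensorProduct.map_tmul, hπX]; rfl
  have hπs : Function.Surjective π := by
    rw [← AlgHom.range_eq_top, ← top_le_iff, ← hGr, Algebra.adjoin_le_iff]
    intro r hr
    refine Submodule.span_le (p := Subalgebra.toSubmodule π.range).mpr ?_ (hspan hr)
    rintro _ ⟨i, rfl⟩
    exact ⟨X i, hπX i⟩
  have hL : IsEquiv A (inlA k n) := isEquiv_of_X _ fun j => by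
    simp only [inlA, rename_X, hX, hXT, map_sum, Algebra.TensorProduct.map_tmul, Fintype.sum_sum_type]
    simp
  have hR : IsEquiv A (inrA k n) := isEquiv_of_X _ fun j => by
    simp only [inrA, rename_X, hX, hXT, map_sum, Algebra.TensorProduct.map_tmul, Fintype.sum_sum_type]
    simp
  have hdiag : IsEquiv A (diag k n) := isEquiv_of_X _ fun j => by
    rcases j with j | j
    · simp only [diag, aeval_X, Sum.elim_inl, hX, hXT, map_sum, Algebra.TensorProduct.map_tmul, Fintype.sum_sum_type]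
      simp
    · simp only [diag, aeval_X, Sum.elim_inr, hX, hXT, map_sum, Algebra.TensorProduct.map_tmul, Fintype.sum_sum_type]
      simp
  have hXact : ∀ (g : A →ₐ[k] k) (l : Fin n), ∃ a : Fin n → k,
      HopfRep.Comod.act k A (MvPolynomial (Fin n) k) g (X l) = ∑ i, a i • X i := fun g l => by
    refine ⟨fun i => g (M i l), ?_⟩
    show slice g.toLinearMap (HopfRep.Comod.coact (k := k) (A := A) (X l : MvPolynomial (Fin n) k)) = _
    rw [hX, map_sum]
    exact Finset.sum_congr rfl fun i _ => slice_tmul _ _ _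
  -- the orbit
  let y : MvPolynomial (Fin n) k →ₐ[k] k := x.comp π
  have hy : IsClosedOrbit k A y := hπ.isClosedOrbit_comp hπs hx
  haveI := formallySmooth_orbit y hy
  let J : Ideal (MvPolynomial (Fin n) k) := RingHom.ker (orbitHom k A y)
  have hJ : ∀ (g : A →ₐ[k] k), ∀ f ∈ J, HopfRep.Comod.act k A (MvPolynomial (Fin n) k) g f ∈ J := fun g f hf =>
    subcomod_actF_mem (isSubcomod_ker_orbitHom (A := A) y) _ hf
  have hJy : J ≤ RingHom.ker y := ker_orbitHom_le y
  obtain ⟨θ, u, c, hθ, hdec, hK, hid, hc, hst⟩ := exists_slice hL hR hXact J hJ hG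
  -- the slice
  let I : Ideal (MvPolynomial (Fin n ⊕ Fin n) k) := (sliceIdeal J c).radical
  have hI : ∀ g : A →ₐ[k] k, ∀ t ∈ I, HopfRep.Comod.act k A (MvPolynomial (Fin n ⊕ Fin n) k) g t ∈ I := by
    rintro g t ⟨N, hN⟩
    refine ⟨N, ?_⟩
    have := hst g _ hN
    rwa [← LunaEt.actHom_apply, map_pow, LunaEt.actHom_apply] at this
  obtain ⟨cR, hcR, hmk⟩ := exists_comod_quot I hI
  letI := cR
  haveI := hcR
  let φL : MvPolynomial (Fin n) k →ₐ[k] (MvPolynomial (Fin n ⊕ Fin n) k ⧸ I) :=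
    (Ideal.Quotient.mkₐ k I).comp (inlA k n)
  let φR : MvPolynomial (Fin n) k →ₐ[k] (MvPolynomial (Fin n ⊕ Fin n) k ⧸ I) :=
    (Ideal.Quotient.mkₐ k I).comp (inrA k n)
  have hq : IsEquiv A (Ideal.Quotient.mkₐ k I) := hmk
  have hφL : IsEquiv A φL := hq.comp hL
  have hφR : IsEquiv A φR := hq.comp hR
  letI aR : Algebra (MvPolynomial (Fin n) k) (MvPolynomial (Fin n ⊕ Fin n) k ⧸ I) := φR.toRingHom.toAlgebra
  haveI : IsScalarTower k (MvPolynomial (Fin n) k) (MvPolynomial (Fin n ⊕ Fin n) k ⧸ I) :=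
    IsScalarTower.of_algebraMap_eq fun r => (φR.commutes r).symm
  haveI : _root_.IsReduced (MvPolynomial (Fin n ⊕ Fin n) k ⧸ I) :=
    (Ideal.isRadical_iff_quotient_reduced I).mp (Ideal.radical_isRadical _)
  -- the base point
  have hb0 : ∀ t ∈ I, y (diag k n t) = 0 := fun t ⟨N, hN⟩ => by
    have hle : sliceIdeal J c ≤ RingHom.ker (y.comp (diag k n)) := by
      refine sup_le (Ideal.map_le_iff_le_comap.mpr fun f hf => ?_) (Ideal.span_le.mpr ?_)
      · show y (diag k n (inlA k n f)) = 0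
        rw [diag_inlA]
        exact hJy hf
      · rintro _ ⟨l, rfl⟩
        show y (diag k n (eqn c l)) = 0
        simp [eqn, diag_delta]
    have h0 : y (diag k n t) ^ N = 0 := by rw [← map_pow, ← map_pow]; exact hle hN
    exact (pow_eq_zero_iff'.mp h0).1
  let b : (MvPolynomial (Fin n ⊕ Fin n) k ⧸ I) →ₐ[k] k := Ideal.Quotient.liftₐ I (y.comp (diag k n)) hb0
  have hbmk : b.comp (Ideal.Quotient.mkₐ k I) = y.comp (diag k n) := AlgHom.ext fun t => rfl
  have hbR : b.comp φR = y := AlgHom.ext fun f => by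
    show y (diag k n (inrA k n f)) = y f
    rw [diag_inrA]
  let m : Ideal (MvPolynomial (Fin n ⊕ Fin n) k ⧸ I) := RingHom.ker b.toRingHom
  haveI : m.IsMaximal := RingHom.ker_isMaximal_of_surjective b.toRingHom fun r => ⟨algebraMap k _ r, b.commutes r⟩
  obtain ⟨het, hdom, hnorm⟩ := isEtaleAt_slice u hθ hdec hK hid c hc y hJy (fun f => rfl) b (fun t => rfl) m rfl
  haveI := hdom
  haveI := hnorm
  -- the fundamental lemma
  let S₀ := invariants k A (MvPolynomial (Fin n) k)
  let R₀ := invariants k A (MvPolynomial (Fin n ⊕ Fin n) k ⧸ I)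
  letI : Algebra S₀ R₀ :=
    ((φR.comp S₀.val).codRestrict R₀ fun s => hφR.mem_invariants s.2).toRingHom.toAlgebra
  haveI : IsScalarTower S₀ R₀ (MvPolynomial (Fin n ⊕ Fin n) k ⧸ I) := IsScalarTower.of_algebraMap_eq fun s => rfl
  haveI : IsScalarTower S₀ (MvPolynomial (Fin n) k) (MvPolynomial (Fin n ⊕ Fin n) k ⧸ I) :=
    IsScalarTower.of_algebraMap_eq fun s => rfl
  obtain ⟨f₁, g₁, hne, hP, -, -, -, -, hgen⟩ := Groth.Agent.S19407.result k A hG (MvPolynomial (Fin n) k)
    (MvPolynomial (Fin n ⊕ Fin n) k ⧸ I) (fun s => hφR s)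
    S₀ Subtype.val_injective (SetLike.ext fun r => (AlgHom.mem_range _).trans ⟨fun ⟨a, h⟩ => h ▸ a.2, fun h => ⟨⟨r, h⟩, rfl⟩⟩)
    R₀ Subtype.val_injective (SetLike.ext fun r => (AlgHom.mem_range _).trans ⟨fun ⟨a, h⟩ => h ▸ a.2, fun h => ⟨⟨r, h⟩, rfl⟩⟩)
    b m rfl het (hbR.symm ▸ hy) (fun g hg => by
      have hg' : actPt k g y = y := hbR ▸ hg
      refine Ideal.Quotient.algHom_ext k ?_
      rw [← hq.actPt_comp, hbmk, hdiag.actPt_comp, hg'])
  let e : MvPolynomial (Fin n ⊕ Fin n) k ⧸ I := algebraMap R₀ _ (f₁ * algebraMap S₀ R₀ g₁)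
  have he : e ∈ invariants k A (MvPolynomial (Fin n ⊕ Fin n) k ⧸ I) := (f₁ * algebraMap S₀ R₀ g₁).2
  refine ⟨π g₁.1, hπ.mem_invariants g₁.2, fun h0 => hne ?_, fun x' hx' _ => ?_⟩
  · rw [map_mul, map_mul, ← IsScalarTower.algebraMap_apply S₀ R₀]
    exact mul_eq_zero_of_right _ ((AlgHom.congr_fun hbR g₁.1).trans h0)
  obtain ⟨Q, hQ, heQ, hQP⟩ := hP (RingHom.ker (x'.comp π)) (RingHom.ker_isPrime _) hx'
  haveI := hQ
  obtain ⟨z₀, hz₀⟩ := exists_point_ne_zero (k := k) (a := Ideal.Quotient.mk Q e)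
    (fun hn => heQ (Ideal.Quotient.eq_zero_iff_mem.mp hn.eq_zero))
  let z : (MvPolynomial (Fin n ⊕ Fin n) k ⧸ I) →ₐ[k] k := z₀.comp (Ideal.Quotient.mkₐ k Q)
  have hzR : x'.comp π = z.comp φR := eq_of_ker_le fun f hf => by
    have hfQ : φR f ∈ Q := (SetLike.ext_iff.mp hQP f).mpr hf
    show z₀ (Ideal.Quotient.mk Q (φR f)) = 0
    rw [Ideal.Quotient.eq_zero_iff_mem.mpr hfQ, map_zero]
  obtain ⟨β, hβ⟩ := mem_orbit_of_isClosedOrbit hy (z := z.comp φL) fun f hf => by
    show z (Ideal.Quotient.mk I (inlA k n f)) = 0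
    rw [Ideal.Quotient.eq_zero_iff_mem.mpr (Ideal.le_radical (Submodule.mem_sup_left (Ideal.mem_map_of_mem _ hf))),
      map_zero]
  let γ : A →ₐ[k] k := β.comp (HopfAlgebra.antipodeAlgHom k A)
  refine ⟨γ, ?_⟩
  have hzL : (actPt k γ z).comp φL = y := by
    rw [← hφL.actPt_comp, hβ]
    exact actPt_inv β y
  calc stabIdeal k A x = stabIdeal k A y := (hπ.stabIdeal_comp_eq hπs x).symm
    _ ≤ stabIdeal k A (actPt k γ z) := hzL ▸ hφL.stabIdeal_comp_le _
    _ ≤ stabIdeal k A ((actPt k γ z).comp φR) := by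
        refine stabIdeal_le_of_generation hφR _ he (by rw [invariant_actPt γ z he]; exact hz₀) fun r => ?_
        obtain ⟨N, t, ht⟩ := hgen r
        refine ⟨N, ?_⟩
        rw [show e ^ N * r = _ from ht.symm]
        clear ht
        induction t using TensorProduct.induction_on with
        | zero => rw [map_zero]; exact zero_mem _
        | tmul a d =>
          rw [Algebra.TensorProduct.productMap_apply_tmul]
          exact mul_mem (Algebra.subset_adjoin (Or.inl ⟨a, rfl⟩)) (Algebra.subset_adjoin (Or.inr d.2))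
        | add p q hp hq => rw [map_add]; exact add_mem hp hq
    _ = stabIdeal k A (actPt k γ x') := by
        rw [← hφR.actPt_comp, ← hzR, hπ.actPt_comp, hπ.stabIdeal_comp_eq hπs]

end Groth.Agent.LunaSlice
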