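import Groth.Agent.LunaSlice.Average

/-!
# Orbits and stabilisers under equivariant algebra maps
-/

set_option autoImplicit false
set_option linter.unusedSectionVars false

universe u

open TensorProduct

namespace Groth.Agent.LunaSlice

open ComodLib GLin

variable {k : Type u} [Field k] {A : Type u} [CommRing A] [HopfAlgebra k A]
variable {S : Type u} [CommRing S] [Algebra k S] [HopfRep.Comod k A S] [GLin.IsCoactAlg k A S]
variable {R : Type u} [CommRing R] [Algebra k R] [HopfRep.Comod k A R] [GLin.IsCoactAlg k A R]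

variable (A) in
/-- An algebra map commuting with the coactions. -/
def IsEquiv (φ : S →ₐ[k] R) : Prop :=
  ∀ s, HopfRep.Comod.coact (k := k) (A := A) (φ s) =
    Algebra.TensorProduct.map φ (AlgHom.id k A) (HopfRep.Comod.coact (k := k) (A := A) s)

theorem IsEquiv.isComodHom {φ : S →ₐ[k] R} (h : IsEquiv A φ) : Hoch.IsComodHom A φ.toLinearMap :=
  LinearMap.ext fun s => (h s).trans (LunaEt.rTensor_eq_map φ _).symm

theorem IsEquiv.act {φ : S →ₐ[k] R} (h : IsEquiv A φ) (g : A →ₐ[k] k) (s : S) :
    φ (HopfRep.Comod.act k A S g s) = HopfRep.Comod.act k A R g (φ s) :=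
  comodHom_actF h.isComodHom g.toLinearMap s

theorem IsEquiv.orbitHom_comp {φ : S →ₐ[k] R} (h : IsEquiv A φ) (y : R →ₐ[k] k) :
    orbitHom k A (y.comp φ) = (orbitHom k A y).comp φ := by
  refine AlgHom.ext fun s => ?_
  rw [orbitHom_apply, AlgHom.comp_apply, orbitHom_apply, h s]
  induction HopfRep.Comod.coact (k := k) (A := A) s using TensorProduct.induction_on with
  | zero => simp
  | tmul a b => simp
  | add p q hp hq => simp only [map_add, hp, hq]

theorem IsEquiv.actPt_comp {φ : S →ₐ[k] R} (h : IsEquiv A φ) (g : A →ₐ[k] k) (y : R →ₐ[k] k) :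
    actPt k g (y.comp φ) = (actPt k g y).comp φ := by
  show g.comp (orbitHom k A _) = _
  rw [h.orbitHom_comp]
  rfl

theorem IsEquiv.mem_invariants {φ : S →ₐ[k] R} (h : IsEquiv A φ) {s : S} (hs : s ∈ invariants k A S) :
    φ s ∈ invariants k A R := by
  rw [mem_invariants_iff] at hs ⊢
  rw [h s, hs, Algebra.TensorProduct.map_tmul, map_one]

/-- The stabiliser of the image contains the stabiliser. -/
theorem IsEquiv.stabIdeal_comp_le {φ : S →ₐ[k] R} (h : IsEquiv A φ) (y : R →ₐ[k] k) :
    stabIdeal k A (y.comp φ) ≤ stabIdeal k A y := by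
  refine Ideal.map_le_iff_le_comap.mpr fun s hs => ?_
  rw [Ideal.mem_comap, h.orbitHom_comp, AlgHom.comp_apply]
  exact Ideal.mem_map_of_mem _ hs

theorem IsEquiv.stabIdeal_comp_eq {φ : S →ₐ[k] R} (h : IsEquiv A φ) (hφ : Function.Surjective φ)
    (y : R →ₐ[k] k) : stabIdeal k A (y.comp φ) = stabIdeal k A y := by
  refine le_antisymm (h.stabIdeal_comp_le y) (Ideal.map_le_iff_le_comap.mpr fun r hr => ?_)
  obtain ⟨s, rfl⟩ := hφ r
  rw [Ideal.mem_comap, ← AlgHom.comp_apply, ← h.orbitHom_comp]
  exact Ideal.mem_map_of_mem _ hr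

theorem IsEquiv.isClosedOrbit_comp {φ : S →ₐ[k] R} (h : IsEquiv A φ) (hφ : Function.Surjective φ)
    {y : R →ₐ[k] k} (hy : IsClosedOrbit k A y) : IsClosedOrbit k A (y.comp φ) := by
  show IsClosed _
  rw [h.orbitHom_comp]
  show IsClosed (Set.range (PrimeSpectrum.comap ((orbitHom k A y).toRingHom.comp φ.toRingHom)))
  rw [PrimeSpectrum.comap_comp, Set.range_comp]
  exact (PrimeSpectrum.isClosedEmbedding_comap_of_surjective _ φ.toRingHom hφ).isClosedMap _ hy

theorem invariant_actPt (g : A →ₐ[k] k) (y : R →ₐ[k] k) {f : R} (hf : f ∈ invariants k A R) :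
    actPt k g y f = y f := by
  show g (orbitHom k A y f) = y f
  rw [orbitHom_of_invariant y hf, AlgHom.commutes]
  rfl

/-- Where an algebra is generated by the image and the invariants, up to powers of an invariant not vanishing at
a point, the stabiliser of the point is the stabiliser of its image. -/
theorem stabIdeal_le_of_generation {φ : S →ₐ[k] R} (h : IsEquiv A φ) (z : R →ₐ[k] k) {e : R}
    (he : e ∈ invariants k A R) (hze : z e ≠ 0)
    (hgen : ∀ r : R, ∃ m : ℕ, e ^ m * r ∈
      Algebra.adjoin k (Set.range φ ∪ (invariants k A R : Set R))) :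
    stabIdeal k A z ≤ stabIdeal k A (z.comp φ) := by
  set I := stabIdeal k A (z.comp φ)
  have key : ∀ r ∈ Algebra.adjoin k (Set.range φ ∪ (invariants k A R : Set R)),
      orbitHom k A z r - algebraMap k A (z r) ∈ I := fun r hr => by
    induction hr using Algebra.adjoin_induction with
    | mem x hx =>
      rcases hx with ⟨s, rfl⟩ | hx
      · have hs : s - algebraMap k S (z (φ s)) ∈ RingHom.ker (z.comp φ) := by
          rw [RingHom.mem_ker, map_sub, AlgHom.commutes, AlgHom.comp_apply]
          exact sub_self _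
        have h1 : orbitHom k A (z.comp φ) (s - algebraMap k S (z (φ s))) ∈ I := Ideal.mem_map_of_mem _ hs
        rw [map_sub, AlgHom.commutes, h.orbitHom_comp, AlgHom.comp_apply] at h1
        exact h1
      · rw [orbitHom_of_invariant z hx, sub_self]
        exact zero_mem _
    | algebraMap c =>
      rw [AlgHom.commutes, AlgHom.commutes, Algebra.algebraMap_self_apply, sub_self]
      exact zero_mem _
    | add a b _ _ ha hb =>
      rw [map_add, map_add, map_add, add_sub_add_comm]
      exact add_mem ha hb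
    | mul a b _ _ ha hb =>
      convert add_mem (I.mul_mem_right (orbitHom k A z b) ha) (I.mul_mem_left (algebraMap k A (z a)) hb) using 1
      simp only [map_mul]
      ring
  refine Ideal.map_le_iff_le_comap.mpr fun r hr => ?_
  obtain ⟨m, hm⟩ := hgen r
  have h1 := key _ hm
  rw [map_mul, map_mul, RingHom.mem_ker.mp hr, mul_zero, map_zero, sub_zero, map_pow,
    orbitHom_of_invariant z he] at h1
  exact (Ideal.unit_mul_mem_iff_mem I ((IsUnit.mk0 _ hze).map _ |>.pow m)).mp h1

end Groth.Agent.LunaSlice
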