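import Groth.Agent.LunaSlice.Nat
import Groth.Agent.LunaSlice.Local

/-!
# An invariant slice ideal

The projection onto the conormal directions along a stable smooth closed subscheme is averaged over the group, so
that the slice equations cut out a stable ideal.
-/

set_option autoImplicit false
set_option linter.unusedSectionVars false
set_option maxHeartbeats 800000

universe u

open MvPolynomial TensorProduct WithConv

namespace Groth.Agent.LunaSlice

open ComodLib LunaEt GLin

/-- The preimage of a stable ideal is carried into the ideal: stability is checked on generators. -/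
theorem actHom_mem_span {k : Type u} [Field k] {A : Type u} [CommRing A] [HopfAlgebra k A]
    {T : Type u} [CommRing T] [Algebra k T] [HopfRep.Comod k A T] [GLin.IsCoactAlg k A T]
    {s : Set T} {I : Ideal T} (g : A →ₐ[k] k) (h : ∀ t ∈ s, HopfRep.Comod.act k A T g t ∈ I) {t : T}
    (ht : t ∈ Ideal.span s) : HopfRep.Comod.act k A T g t ∈ I := by
  have : Ideal.span s ≤ I.comap (actHom (R := T) g) := Ideal.span_le.mpr h
  exact this ht

variable {k : Type u} [Field k] [IsAlgClosed k] {A : Type u} [CommRing A] [HopfAlgebra k A] [Algebra.FiniteType k A]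
  [_root_.IsReduced A] {n : ℕ}

local notation "Px" => MvPolynomial (Fin n) k
local notation "T2" => MvPolynomial (Fin n ⊕ Fin n) k

variable [HopfRep.Comod k A (MvPolynomial (Fin n) k)] [GLin.IsCoactAlg k A (MvPolynomial (Fin n) k)]
  [HopfRep.Comod k A (MvPolynomial (Fin n ⊕ Fin n) k)] [GLin.IsCoactAlg k A (MvPolynomial (Fin n ⊕ Fin n) k)]

/-- A linear combination of the differences with coefficients in the first variable. -/
noncomputable def comb : (Fin n → MvPolynomial (Fin n) k) →ₗ[k] MvPolynomial (Fin n ⊕ Fin n) k :=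
  ∑ l, (LinearMap.mulRight k (delta (k := k) (n := n) l)) ∘ₗ (inlA k n).toLinearMap ∘ₗ LinearMap.proj l

theorem comb_apply (f : Fin n → Px) : comb f = ∑ l, inlA k n (f l) * delta l := by
  simp [comb, LinearMap.sum_apply]

theorem D_comb (J : Ideal (MvPolynomial (Fin n) k)) (f : Fin n → Px) (l : Fin n) :
    D J (comb f) l = Ideal.Quotient.mk J (f l) := by
  classical
  rw [comb_apply, map_sum, Finset.sum_apply]
  simp only [D_inlA_mul, D_delta, Pi.smul_apply, smul_eq_mul, Pi.single_apply, mul_ite, mul_one, mul_zero]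
  simp [eq_comm]

variable (hL : IsEquiv A (inlA k n)) (hR : IsEquiv A (inrA k n))
  (hX : ∀ (g : A →ₐ[k] k) (l : Fin n), ∃ a : Fin n → k,
    HopfRep.Comod.act k A (MvPolynomial (Fin n) k) g (X l) = ∑ i, a i • X i)

include hL hR hX

theorem act_delta (g : A →ₐ[k] k) (l : Fin n) :
    ∃ a : Fin n → k, HopfRep.Comod.act k A T2 g (delta l) = ∑ i, a i • delta i := by
  obtain ⟨a, ha⟩ := hX g l
  refine ⟨a, ?_⟩
  rw [show (delta l : T2) = inrA k n (X l) - inlA k n (X l) by simp [delta, inrA, inlA], map_sub, ← hR.act, ← hL.act,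
    ha, map_sum, map_sum, ← Finset.sum_sub_distrib]
  exact Finset.sum_congr rfl fun i _ => by simp [delta, inrA, inlA, smul_sub]

theorem act_comb (g : A →ₐ[k] k) (f : Fin n → Px) :
    ∃ f' : Fin n → Px, HopfRep.Comod.act k A T2 g (comb f) = comb f' := by
  choose a ha using act_delta hL hR hX g
  refine ⟨fun i => ∑ l, a l i • HopfRep.Comod.act k A Px g (f l), ?_⟩
  rw [comb_apply, comb_apply, map_sum]
  simp only [ComodLib.act_mul, ← hL.act, ha, map_sum, Finset.mul_sum, Finset.sum_mul, map_smul, smul_mul_assoc,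
    mul_smul_comm]
  exact Finset.sum_comm

variable (J : Ideal (MvPolynomial (Fin n) k))
  (hJ : ∀ (g : A →ₐ[k] k), ∀ f ∈ J, HopfRep.Comod.act k A (MvPolynomial (Fin n) k) g f ∈ J)

include hJ

theorem act_mem_map (g : A →ₐ[k] k) {t : T2} (ht : t ∈ J.map (inlA k n)) :
    HopfRep.Comod.act k A T2 g t ∈ J.map (inlA k n) := by
  refine actHom_mem_span g ?_ ht
  rintro _ ⟨f, hf, rfl⟩
  rw [← hL.act]
  exact Ideal.mem_map_of_mem _ (hJ g f hf)

theorem act_D_eq_zero (g : A →ₐ[k] k) {t : T2} (ht : D J t = 0) : D J (HopfRep.Comod.act k A T2 g t) = 0 := by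
  obtain ⟨f, hf⟩ := (D_eq_zero_iff J t).mp ht
  refine (D_eq_zero_iff J _).mpr ⟨HopfRep.Comod.act k A Px g f, ?_⟩
  rw [hL.act, ← map_sub]
  have hΔ : diagIdeal k n ≤ (diagIdeal k n).comap (actHom (R := T2) g) := Ideal.span_le.mpr (by
    rintro _ ⟨l, rfl⟩
    obtain ⟨a, ha⟩ := act_delta hL hR hX g l
    show HopfRep.Comod.act k A T2 g (delta l) ∈ diagIdeal k n
    rw [ha]
    exact Ideal.sum_mem _ fun i _ => Submodule.smul_of_tower_mem _ _ (Ideal.subset_span ⟨i, rfl⟩))
  have hle : J.map (inlA k n) ⊔ diagIdeal k n ^ 2 ≤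
      (J.map (inlA k n) ⊔ diagIdeal k n ^ 2).comap (actHom (R := T2) g) := by
    refine sup_le (fun s hs => Submodule.mem_sup_left (act_mem_map hL hR hX J hJ g hs)) ?_
    refine ((Ideal.pow_right_mono hΔ 2).trans (Ideal.le_comap_pow (actHom (R := T2) g) 2)).trans
      (Ideal.comap_mono le_sup_right)
  exact hle hf

/-- The kernel of the first order part, with linear scalars. -/
theorem act_D_congr (g : A →ₐ[k] k) {t t' : T2} (h : D J t = D J t') :
    D J (HopfRep.Comod.act k A T2 g t) = D J (HopfRep.Comod.act k A T2 g t') := by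
  have := act_D_eq_zero hL hR hX J hJ g (t := t - t') (by rw [map_sub, h, sub_self])
  rwa [map_sub, map_sub, sub_eq_zero] at this

/-- The data of an invariant slice along a stable smooth closed subscheme. -/
theorem exists_slice [Algebra.FormallySmooth k (MvPolynomial (Fin n) k ⧸ J)]
    (hG : HopfRep.IsLinearlyReductive k A) :
    ∃ (θ : Fin n → MvPolynomial (Fin n) k)
      (u : (Fin n → MvPolynomial (Fin n) k ⧸ J) →ₗ[MvPolynomial (Fin n) k ⧸ J]
        (Fin n → MvPolynomial (Fin n) k ⧸ J))
      (c : Fin n → Fin n → MvPolynomial (Fin n) k),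
      (∀ l, θ l ∈ J) ∧ (∀ h ∈ J, h + ∑ l, pderiv l h * θ l ∈ J * J) ∧
      (∀ m ∈ K0 J, u m = 0) ∧ (∀ m, u m - m ∈ K0 J) ∧
      (∀ l i, Ideal.Quotient.mk J (c l i) = u (Pi.single l 1) i) ∧
      ∀ g : A →ₐ[k] k, ∀ t ∈ sliceIdeal J c, HopfRep.Comod.act k A T2 g t ∈ sliceIdeal J c := by
  classical
  obtain ⟨α, hα, h1⟩ := exists_integral_of_isLinearlyReductive hG
  obtain ⟨θ, hθ, hdec⟩ := exists_theta J
  obtain ⟨E, hE0, hE1⟩ := exists_E0 J hθ hdec
  obtain ⟨σ, hσ⟩ := LinearMap.exists_rightInverse_of_surjective ((Ideal.Quotient.mkₐ k J).toLinearMap)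
    (LinearMap.range_eq_top.mpr Ideal.Quotient.mk_surjective)
  have hσ' : ∀ y, Ideal.Quotient.mk J (σ y) = y := fun y => LinearMap.congr_fun hσ y
  let lift : (Fin n → Px ⧸ J) →ₗ[k] (Fin n → Px) := LinearMap.pi fun l => σ ∘ₗ LinearMap.proj l
  let p : T2 →ₗ[k] T2 := comb ∘ₗ lift ∘ₗ E.restrictScalars k ∘ₗ D J
  have hp : ∀ t, D J (p t) = E (D J t) := fun t => funext fun l => (D_comb J _ l).trans (hσ' _)
  have hp0 : ∀ t, E (D J t) = 0 → p t = 0 := fun t h => by
    show comb (lift (E (D J t))) = 0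
    rw [h, map_zero, map_zero]
  let a : T2 →ₗ[k] T2 := average α p
  have ha : ∀ (g : A →ₐ[k] k) (t : T2), a (HopfRep.Comod.act k A T2 g t) = HopfRep.Comod.act k A T2 g (a t) :=
    fun g t => comodHom_actF (isComodHom_average hα p) g.toLinearMap t
  -- functions without first order part
  have ha0 : ∀ t, D J t = 0 → a t = 0 := fun t ht => by
    refine (Submodule.mem_bot k).mp (average_mem h1 p t ⊥ fun g => (Submodule.mem_bot k).mpr ?_)
    rw [conjPt, hp0 _ (by rw [act_D_eq_zero hL hR hX J hJ g ht, map_zero]), map_zero]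
  have haJ : ∀ h ∈ J, a (inrA k n h) = 0 := fun h hh => by
    refine (Submodule.mem_bot k).mp (average_mem h1 p _ ⊥ fun g => (Submodule.mem_bot k).mpr ?_)
    rw [conjPt, hp0 _ (by rw [← hR.act]; exact hE0 _ ⟨_, hJ g h hh, rfl⟩), map_zero]
  have haK : ∀ t, D J (a t) - D J t ∈ K0 J := fun t => by
    have := average_sub_mem h1 p t t 0 t (((K0 J).restrictScalars k).comap (D J)) fun g => by
      obtain ⟨h, hh, e⟩ := hE1 (D J (HopfRep.Comod.act k A T2 g t))
      refine ⟨HopfRep.Comod.act k A Px (toConv g)⁻¹.ofConv h, hJ _ h hh, ?_⟩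
      rw [LinearMap.zero_apply, sub_zero, hR.act]
      rw [show conjPt p g t - t = HopfRep.Comod.act k A T2 (toConv g)⁻¹.ofConv
        (p (HopfRep.Comod.act k A T2 g t) - HopfRep.Comod.act k A T2 g t) by
          rw [map_sub, conjPt]
          congr 1
          have e' := act_inv_act (R := T2) (toConv g)⁻¹.ofConv t
          rw [show toConv ((toConv g)⁻¹.ofConv) = (toConv g)⁻¹ from rfl, inv_inv] at e'
          exact e'.symm]
      exact act_D_congr hL hR hX J hJ _ (by rw [e, map_sub, hp])
    rw [LinearMap.zero_apply, sub_zero] at this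
    exact (map_sub (D J) (a t) t) ▸ this
  have hamul : ∀ (r : Px) (t : T2), D J (a (inlA k n r * t)) = Ideal.Quotient.mk J r • D J (a t) := fun r t => by
    have := average_sub_mem h1 p t (inlA k n r * t) (LinearMap.mulLeft k (inlA k n r)) 0
      (LinearMap.ker (D J)) fun g => by
      rw [sub_zero, LinearMap.mem_ker, map_sub, sub_eq_zero, LinearMap.mulLeft_apply]
      have e : D J (p (HopfRep.Comod.act k A T2 g (inlA k n r * t))) =
          D J (inlA k n (HopfRep.Comod.act k A Px g r) * p (HopfRep.Comod.act k A T2 g t)) := by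
        rw [hp, ComodLib.act_mul, ← hL.act, D_inlA_mul, D_inlA_mul, map_smul, hp]
      refine (act_D_congr hL hR hX J hJ (toConv g)⁻¹.ofConv e).trans ?_
      rw [ComodLib.act_mul, ← hL.act]
      congr 2
      have e' := act_inv_act (R := Px) (toConv g)⁻¹.ofConv r
      rw [show toConv ((toConv g)⁻¹.ofConv) = (toConv g)⁻¹ from rfl, inv_inv] at e'
      rw [e']
    rw [sub_zero, LinearMap.mem_ker, map_sub, sub_eq_zero, LinearMap.mulLeft_apply, D_inlA_mul] at this
    exact this
  let u := Fintype.linearCombination (Px ⧸ J) (fun l => D J (a (delta l)))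
  have hu : ∀ t, u (D J t) = D J (a t) := fun t => by
    have h0 : D J (t - comb (lift (D J t))) = 0 := by
      rw [map_sub, sub_eq_zero]
      exact funext fun l => ((D_comb J _ l).trans (hσ' _)).symm
    have h1' := ha0 _ h0
    rw [map_sub, sub_eq_zero] at h1'
    rw [h1', comb_apply, map_sum, map_sum]
    simp only [hamul, u, Fintype.linearCombination_apply, lift, LinearMap.pi_apply, LinearMap.comp_apply,
      LinearMap.proj_apply, hσ']
  let c : Fin n → Fin n → Px := fun l => lift (u (Pi.single l 1))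
  have hc : ∀ l i, Ideal.Quotient.mk J (c l i) = u (Pi.single l 1) i := fun l i => hσ' _
  refine ⟨θ, u, c, hθ, hdec, ?_, fun m => ?_, hc, ?_⟩
  · rintro _ ⟨h, hh, rfl⟩
    rw [hu, haJ h hh, map_zero]
  · have e : D J (comb (lift m)) = m := funext fun l => (D_comb J _ l).trans (hσ' _)
    have := haK (comb (lift m))
    rwa [← hu, e] at this
  intro g t ht
  have hDe : ∀ l, D J (eqn c l) = u (Pi.single l 1) := fun l => by
    rw [show eqn c l = comb (c l) from (comb_apply _).symm]
    exact funext fun i => (D_comb J _ i).trans (hc l i)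
  have hle : sliceIdeal J c ≤ (sliceIdeal J c).comap (actHom (R := T2) g) := by
    refine sup_le (fun s hs => Submodule.mem_sup_left (act_mem_map hL hR hX J hJ g hs)) (Ideal.span_le.mpr ?_)
    rintro _ ⟨l, rfl⟩
    show HopfRep.Comod.act k A T2 g (eqn c l) ∈ sliceIdeal J c
    obtain ⟨f, hf⟩ := act_comb hL hR hX g (c l)
    rw [comb_apply] at hf
    rw [show eqn c l = ∑ i, inlA k n (c l i) * delta i from rfl, hf]
    -- the coefficients are in the image of the projection
    have hd : D J (comb f) = u (D J (HopfRep.Comod.act k A T2 g (delta l))) := by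
      rw [← hf, hu, ha]
      refine act_D_congr hL hR hX J hJ g ((hDe l).trans ?_)
      rw [← hu, D_delta]
    set m := D J (HopfRep.Comod.act k A T2 g (delta l))
    have hfm : ∀ i, f i - ∑ j, σ (m j) * c j i ∈ J := fun i => by
      rw [← Ideal.Quotient.eq_zero_iff_mem, map_sub, sub_eq_zero, ← D_comb J f i, hd, u_apply u m,
        Finset.sum_apply, map_sum]
      exact Finset.sum_congr rfl fun j _ => by rw [map_mul, hσ', hc]; rfl
    have e : comb f = ∑ i, inlA k n (f i - ∑ j, σ (m j) * c j i) * delta i +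
        ∑ j, inlA k n (σ (m j)) * eqn c j := by
      simp only [comb_apply, eqn, map_sub, sub_mul, map_sum, map_mul, Finset.sum_mul, Finset.mul_sum,
        Finset.sum_sub_distrib, mul_assoc]
      rw [Finset.sum_comm (γ := Fin n)]
      simp
    rw [e]
    exact add_mem (Ideal.sum_mem _ fun i _ => Submodule.mem_sup_left (Ideal.mul_mem_right _ _
      (Ideal.mem_map_of_mem _ (hfm i)))) (Ideal.sum_mem _ fun j _ => Submodule.mem_sup_right
      (Ideal.mul_mem_left _ _ (Ideal.subset_span ⟨j, rfl⟩)))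
  exact hle ht

end Groth.Agent.LunaSlice
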