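import Mathlib.Algebra.MvPolynomial.PDeriv
import Mathlib.RingTheory.Ideal.Quotient.Operations
import Mathlib.RingTheory.Smooth.Basic

/-!
# First order data along a closed subscheme of affine space
-/

set_option autoImplicit false
set_option linter.unusedSectionVars false

universe u

open MvPolynomial

namespace Groth.Agent.LunaSlice

variable {k : Type u} [Field k] {n : ℕ}

local notation "Px" => MvPolynomial (Fin n) k
local notation "T2" => MvPolynomial (Fin n ⊕ Fin n) k

variable (k n) in
/-- Functions of the first variable. -/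
noncomputable def inlA : Px →ₐ[k] T2 := rename Sum.inl

variable (k n) in
/-- Functions of the second variable. -/
noncomputable def inrA : Px →ₐ[k] T2 := rename Sum.inr

variable (k n) in
/-- Restriction to the diagonal. -/
noncomputable def diag : T2 →ₐ[k] Px := aeval (Sum.elim X X)

/-- The difference of the two variables. -/
noncomputable def delta (l : Fin n) : T2 := X (Sum.inr l) - X (Sum.inl l)

variable (k n) in
/-- The ideal of the diagonal. -/
noncomputable def diagIdeal : Ideal T2 := Ideal.span (Set.range (delta (k := k) (n := n)))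

theorem diag_inlA (f : Px) : diag k n (inlA k n f) = f := by
  simp only [diag, inlA, aeval_rename]
  exact aeval_X_left_apply f

theorem diag_inrA (f : Px) : diag k n (inrA k n f) = f := by
  simp only [diag, inrA, aeval_rename]
  exact aeval_X_left_apply f

theorem diag_delta (l : Fin n) : diag k n (delta l) = 0 := by
  simp [diag, delta]

theorem pderiv_inr_inlA (l : Fin n) (f : Px) : pderiv (Sum.inr l) (inlA k n f) = 0 := by
  refine pderiv_eq_zero_of_notMem_vars fun h => ?_
  classical
  obtain ⟨i, -, hi⟩ := Finset.mem_image.mp (vars_rename _ _ h)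
  exact Sum.inl_ne_inr hi

theorem pderiv_inr_inrA (l : Fin n) (f : Px) : pderiv (Sum.inr l) (inrA k n f) = inrA k n (pderiv l f) :=
  pderiv_rename Sum.inr_injective l f

theorem pderiv_inl_inlA (l : Fin n) (f : Px) : pderiv (Sum.inl l) (inlA k n f) = inlA k n (pderiv l f) :=
  pderiv_rename Sum.inl_injective l f

theorem pderiv_inr_delta (i l : Fin n) :
    pderiv (Sum.inr i) (delta l : T2) = if i = l then 1 else 0 := by
  classical
  simp [delta, pderiv_X, Pi.single_apply, eq_comm]

theorem pderiv_inl_delta (i l : Fin n) :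
    pderiv (Sum.inl i) (delta l : T2) = if i = l then -1 else 0 := by
  classical
  simp [delta, pderiv_X, Pi.single_apply, eq_comm]
  split_ifs <;> simp

/-- Taylor expansion to first order at the diagonal. -/
theorem taylor (t : T2) :
    t - inlA k n (diag k n t) - ∑ l, inlA k n (diag k n (pderiv (Sum.inr l) t)) * delta l ∈ diagIdeal k n ^ 2 := by
  classical
  induction t using MvPolynomial.induction_on with
  | C a => simp [inlA, diag]
  | add p q hp hq =>
    convert add_mem hp hq using 1
    simp only [map_add, add_mul, Finset.sum_add_distrib]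
    ring
  | mul_X p v hp =>
    rcases v with i | i
    · convert Ideal.mul_mem_right (X (Sum.inl i)) _ hp using 1
      simp only [Derivation.leibniz, pderiv_X_of_ne Sum.inl_ne_inr, smul_zero, zero_add, smul_eq_mul,
        map_mul, sub_mul, Finset.sum_mul]
      simp only [diag, aeval_X, Sum.elim_inl, inlA, rename_X]
      congr 1
      refine Finset.sum_congr rfl fun l _ => ?_
      simp only [map_mul, map_add, map_zero, aeval_X, Sum.elim_inl, rename_X, mul_zero, zero_add]
      ring
    · have hd : p - inlA k n (diag k n p) ∈ diagIdeal k n := by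
        have h1 := Ideal.pow_le_self two_ne_zero hp
        have h2 : (∑ l, inlA k n (diag k n (pderiv (Sum.inr l) p)) * delta l) ∈ diagIdeal k n :=
          Ideal.sum_mem _ fun l _ => Ideal.mul_mem_left _ _ (Ideal.subset_span ⟨l, rfl⟩)
        simpa using add_mem h1 h2
      have h3 : (p - inlA k n (diag k n p)) * delta i ∈ diagIdeal k n ^ 2 := by
        rw [pow_two]; exact Ideal.mul_mem_mul hd (Ideal.subset_span ⟨i, rfl⟩)
      convert add_mem (Ideal.mul_mem_right (X (Sum.inl i)) _ hp) h3 using 1
      simp only [Derivation.leibniz, smul_eq_mul, map_add, map_mul, add_mul, Finset.sum_add_distrib,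
        sub_mul, Finset.sum_mul, pderiv_X, Pi.single_apply, Sum.inr.injEq]
      simp only [diag, aeval_X, Sum.elim_inr, inlA, rename_X, apply_ite, map_zero, map_one, mul_ite, mul_zero,
        mul_one, ite_mul, zero_mul, Finset.sum_ite_eq, Finset.mem_univ, if_true, delta]
      have e : ∀ (a : Fin n → T2), (∑ l, X (Sum.inl i) * a l * delta l) = ∑ l, a l * delta l * X (Sum.inl i) :=
        fun a => Finset.sum_congr rfl fun l _ => by ring
      simp only [delta] at e
      rw [e]
      ring

variable (J : Ideal (MvPolynomial (Fin n) k))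

/-- The first order part at the points `(o, o)` with `o` in `V(J)`. -/
noncomputable def D : T2 →ₗ[k] (Fin n → Px ⧸ J) :=
  LinearMap.pi fun l => (Ideal.Quotient.mkₐ k J).toLinearMap ∘ₗ (diag k n).toLinearMap ∘ₗ
    (pderiv (R := k) (Sum.inr l)).toLinearMap

theorem D_apply (t : T2) (l : Fin n) :
    D J t l = Ideal.Quotient.mk J (diag k n (pderiv (Sum.inr l) t)) := rfl

theorem D_inlA (f : Px) : D J (inlA k n f) = 0 := by
  funext l; simp [D_apply, pderiv_inr_inlA]

theorem D_inlA_mul (f : Px) (t : T2) : D J (inlA k n f * t) = Ideal.Quotient.mk J f • D J t := by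
  funext l
  simp [D_apply, pderiv_inr_inlA, diag_inlA]

theorem D_inrA (f : Px) (l : Fin n) : D J (inrA k n f) l = Ideal.Quotient.mk J (pderiv l f) := by
  simp [D_apply, pderiv_inr_inrA, diag_inrA]

theorem D_delta (l : Fin n) : D J (delta l) = Pi.single l 1 := by
  classical
  funext i
  rw [D_apply, pderiv_inr_delta, Pi.single_apply]
  split_ifs <;> simp

theorem D_eq_zero_of_mem_map {t : T2} (ht : t ∈ J.map (inlA k n)) : D J t = 0 := by
  have : ∀ t ∈ J.map (inlA k n), ∀ s : T2, D J (t * s) = 0 := fun t ht => by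
    induction ht using Submodule.span_induction with
    | mem y hy =>
      obtain ⟨f, hf, rfl⟩ := hy
      intro s
      rw [D_inlA_mul, Ideal.Quotient.eq_zero_iff_mem.mpr hf]
      exact funext fun l => zero_mul _
    | zero => simp
    | add a b _ _ ha hb => intro s; rw [add_mul, map_add, ha, hb, add_zero]
    | smul c a _ ha => intro s; rw [smul_eq_mul, mul_comm c, mul_assoc]; exact ha _
  simpa using this t ht 1

theorem D_eq_zero_of_mem_sq {t : T2} (ht : t ∈ diagIdeal k n ^ 2) : D J t = 0 := by
  have hd : ∀ a ∈ diagIdeal k n, diag k n a = 0 := fun a ha => by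
    refine (Ideal.span_le.mpr ?_ : diagIdeal k n ≤ RingHom.ker (diag k n)) ha
    rintro _ ⟨l, rfl⟩
    exact diag_delta l
  rw [pow_two] at ht
  refine Submodule.mul_induction_on ht (fun a ha b hb => ?_) fun a b ha hb => by rw [map_add, ha, hb, add_zero]
  funext l
  simp [D_apply, hd a ha, hd b hb]

/-- The kernel of the first order part. -/
theorem D_eq_zero_iff (t : T2) : D J t = 0 ↔ ∃ f, t - inlA k n f ∈ J.map (inlA k n) ⊔ diagIdeal k n ^ 2 := by
  refine ⟨fun h => ⟨diag k n t, ?_⟩, ?_⟩
  · have h2 : (∑ l, inlA k n (diag k n (pderiv (Sum.inr l) t)) * delta l) ∈ J.map (inlA k n) :=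
      Ideal.sum_mem _ fun l _ => Ideal.mul_mem_right _ _ (Ideal.mem_map_of_mem _
        (Ideal.Quotient.eq_zero_iff_mem.mp (congrFun h l)))
    convert add_mem (Submodule.mem_sup_left h2) (Submodule.mem_sup_right (taylor t)) using 1
    ring
  · rintro ⟨f, hf⟩
    obtain ⟨a, ha, b, hb, e⟩ := Submodule.mem_sup.mp hf
    rw [show t = inlA k n f + a + b by rw [add_assoc, e]; ring, map_add, map_add, D_inlA, D_eq_zero_of_mem_map J ha,
      D_eq_zero_of_mem_sq J hb, add_zero, add_zero]

/-- The differentials of the functions vanishing on `V(J)`. -/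
noncomputable def K0 : Submodule (Px ⧸ J) (Fin n → Px ⧸ J) where
  carrier := {m | ∃ h ∈ J, D J (inrA k n h) = m}
  add_mem' := by
    rintro _ _ ⟨a, ha, rfl⟩ ⟨b, hb, rfl⟩
    exact ⟨a + b, add_mem ha hb, by simp⟩
  zero_mem' := ⟨0, zero_mem _, by simp⟩
  smul_mem' := by
    rintro c _ ⟨a, ha, rfl⟩
    obtain ⟨c, rfl⟩ := Ideal.Quotient.mk_surjective c
    refine ⟨c * a, J.mul_mem_left _ ha, funext fun l => ?_⟩
    rw [D_inrA]
    simp [D_inrA, Ideal.Quotient.eq_zero_iff_mem.mpr ha]

theorem D_inrA_mul_of_mem (r : Px) {h : Px} (hh : h ∈ J) :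
    D J (inrA k n (r * h)) = Ideal.Quotient.mk J r • D J (inrA k n h) := by
  funext l
  rw [D_inrA]
  simp [D_inrA, Ideal.Quotient.eq_zero_iff_mem.mpr hh]

theorem D_inrA_eq_zero_of_sq {h : Px} (hh : h ∈ J * J) : D J (inrA k n h) = 0 := by
  refine Submodule.mul_induction_on hh (fun a ha b hb => ?_) fun a b ha hb => by simp [ha, hb]
  rw [D_inrA_mul_of_mem J a hb, Ideal.Quotient.eq_zero_iff_mem.mpr ha]
  exact funext fun l => zero_mul _

/-- On a smooth subscheme the functions vanishing on it are, modulo squares, combinations of finitely many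
with coefficients the partial derivatives. -/
theorem exists_theta [Algebra.FormallySmooth k (Px ⧸ J)] :
    ∃ θ : Fin n → Px, (∀ l, θ l ∈ J) ∧ ∀ h ∈ J, h + ∑ l, pderiv l h * θ l ∈ J * J := by
  classical
  let q : (Px ⧸ J * J) →ₐ[k] Px ⧸ J := Ideal.Quotient.factorₐ k Ideal.mul_le_left
  have hq : Function.Surjective q := fun y => by
    obtain ⟨y, rfl⟩ := Ideal.Quotient.mk_surjective y
    exact ⟨Ideal.Quotient.mk _ y, rfl⟩
  have hq' : IsNilpotent (RingHom.ker (q : (Px ⧸ J * J) →+* Px ⧸ J)) := by
    refine ⟨2, ?_⟩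
    have hk : RingHom.ker (q : (Px ⧸ J * J) →+* Px ⧸ J) ≤ J.map (Ideal.Quotient.mk (J * J)) := fun y hy => by
      obtain ⟨y, rfl⟩ := Ideal.Quotient.mk_surjective y
      exact Ideal.mem_map_of_mem _ (Ideal.Quotient.eq_zero_iff_mem.mp hy)
    refine le_bot_iff.mp ((le_of_eq (Submodule.pow_succ _)).trans ?_)
    rw [Submodule.pow_one]
    refine (Ideal.mul_mono hk hk).trans ?_
    rw [← Ideal.map_mul, Ideal.map_quotient_self]
  let σ := Algebra.FormallySmooth.liftOfSurjective (AlgHom.id k (Px ⧸ J)) q hq hq'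
  have hσ : ∀ y, q (σ y) = y := Algebra.FormallySmooth.liftOfSurjective_apply _ q hq hq'
  have hex : ∀ l, ∃ θ ∈ J, σ (Ideal.Quotient.mk J (X l)) = Ideal.Quotient.mk (J * J) (X l + θ) := fun l => by
    obtain ⟨y, hy⟩ := Ideal.Quotient.mk_surjective (σ (Ideal.Quotient.mk J (X l)))
    refine ⟨y - X l, ?_, by rw [add_sub_cancel, hy]⟩
    have h := hσ (Ideal.Quotient.mk J (X l))
    rw [← hy] at h
    exact Ideal.Quotient.eq.mp h
  choose θ hθ hθσ using hex
  have key : ∀ f : Px, σ (Ideal.Quotient.mk J f) =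
      Ideal.Quotient.mk (J * J) (f + ∑ l, pderiv l f * θ l) := fun f => by
    induction f using MvPolynomial.induction_on with
    | C a =>
      simp only [pderiv_C, zero_mul, Finset.sum_const_zero, add_zero]
      exact σ.commutes a
    | add p r hp hr =>
      rw [map_add, map_add, hp, hr, ← map_add]
      simp only [map_add, add_mul, Finset.sum_add_distrib]
      ring
    | mul_X p i hp =>
      rw [map_mul, map_mul, hp, hθσ, ← map_mul, Ideal.Quotient.eq]
      have hS : (∑ l, pderiv l p * θ l) * θ i ∈ J * J :=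
        Ideal.mul_mem_mul (Ideal.sum_mem _ fun l _ => Ideal.mul_mem_left _ _ (hθ l)) (hθ i)
      convert hS using 1
      simp only [Derivation.leibniz, smul_eq_mul, add_mul, Finset.sum_add_distrib, pderiv_X, Pi.single_apply,
        mul_ite, mul_one, mul_zero, ite_mul, zero_mul, Finset.sum_ite_eq, Finset.mem_univ, if_true,
        mul_assoc, ← Finset.mul_sum]
      ring
  refine ⟨θ, hθ, fun h hh => ?_⟩
  have h1 := key h
  rw [Ideal.Quotient.eq_zero_iff_mem.mpr hh, map_zero] at h1
  exact Ideal.Quotient.eq_zero_iff_mem.mp h1.symm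

theorem mem_sq_of_D_eq_zero {θ : Fin n → Px} (hθ : ∀ l, θ l ∈ J)
    (hdec : ∀ h ∈ J, h + ∑ l, pderiv l h * θ l ∈ J * J) {h : Px} (hh : h ∈ J)
    (h0 : D J (inrA k n h) = 0) : h ∈ J * J := by
  have h2 : (∑ l, pderiv l h * θ l) ∈ J * J := Ideal.sum_mem _ fun l _ =>
    Ideal.mul_mem_mul (Ideal.Quotient.eq_zero_iff_mem.mp (by rw [← D_inrA J, h0]; rfl)) (hθ l)
  simpa using sub_mem (hdec h hh) h2

/-- An endomorphism killing the differentials and congruent to the identity modulo them. -/
theorem exists_E0 {θ : Fin n → Px} (hθ : ∀ l, θ l ∈ J)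
    (hdec : ∀ h ∈ J, h + ∑ l, pderiv l h * θ l ∈ J * J) :
    ∃ E : (Fin n → Px ⧸ J) →ₗ[Px ⧸ J] (Fin n → Px ⧸ J),
      (∀ m ∈ K0 J, E m = 0) ∧ ∀ m, E m - m ∈ K0 J := by
  let d : Fin n → (Fin n → Px ⧸ J) := fun l => D J (inrA k n (θ l))
  let E : (Fin n → Px ⧸ J) →ₗ[Px ⧸ J] (Fin n → Px ⧸ J) :=
    LinearMap.id + Fintype.linearCombination (Px ⧸ J) d
  have hE : ∀ m, E m = m + ∑ l, m l • d l := fun m => by
    simp [E, Fintype.linearCombination_apply]
  refine ⟨E, ?_, fun m => ?_⟩
  · rintro _ ⟨h, hh, rfl⟩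
    rw [hE]
    have h1 := D_inrA_eq_zero_of_sq J (hdec h hh)
    rw [map_add, map_sum, map_add, map_sum] at h1
    refine Eq.trans ?_ h1
    congr 1
    exact Finset.sum_congr rfl fun l _ => by rw [D_inrA, D_inrA_mul_of_mem J _ (hθ l)]
  · rw [hE, add_sub_cancel_left]
    exact Submodule.sum_mem _ fun l _ => Submodule.smul_mem _ _ ⟨θ l, hθ l, rfl⟩

end Groth.Agent.LunaSlice
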